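import Cfsg.Agent.Lib.JFourClasses.Pieces
import Cfsg.Agent.Lib.JFourPrime.Defs

/-!
# Classes in a centralizer with a normal subgroup of prime power order and a complement

The elements of order prime to `p` fall into as many classes as the complement has.
-/

set_option autoImplicit false
set_option linter.style.haveILetI false

namespace CfsgLib.JFourClasses

open CfsgLib.JFourPrime

variable {G : Type*} [Group G]

theorem pow_coset {O : Subgroup G} {y h : G} (hn : ∀ o ∈ O, h⁻¹ * o * h ∈ O) (hy : h⁻¹ * y ∈ O) :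
    ∀ k : ℕ, (h ^ k)⁻¹ * y ^ k ∈ O
  | 0 => by simp
  | k + 1 => by
    rw [show (h ^ (k + 1))⁻¹ * y ^ (k + 1) = h⁻¹ * ((h ^ k)⁻¹ * y ^ k) * h * (h⁻¹ * y) by
      rw [pow_succ, pow_succ]; group]
    exact mul_mem (hn _ (pow_coset hn hy k)) hy

theorem eq_one_of_coprime [Finite G] {p : ℕ} [Fact p.Prime] {O : Subgroup G} (hO : IsPGroup p O) {a : G}
    (ha : a ∈ O) (hc : (orderOf a).Coprime p) : a = 1 := by
  obtain ⟨k, hk⟩ := hO ⟨a, ha⟩
  have h : orderOf a ∣ p ^ k := orderOf_dvd_of_pow_eq_one (by simpa using congrArg Subtype.val hk)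
  exact orderOf_eq_one_iff.1 (Nat.eq_one_of_dvd_coprimes (hc.pow_right k) dvd_rfl h)

theorem order_coset [Finite G] {p : ℕ} [Fact p.Prime] {O : Subgroup G} (hO : IsPGroup p O) {y h : G}
    (hn : ∀ o ∈ O, h⁻¹ * o * h ∈ O) (hy : h⁻¹ * y ∈ O) (hyp : (orderOf y).Coprime p) :
    orderOf y ∣ orderOf h := by
  refine orderOf_dvd_of_pow_eq_one (eq_one_of_coprime hO ?_ (hyp.coprime_dvd_left (orderOf_pow_dvd _)))
  simpa [pow_orderOf_eq_one] using pow_coset hn hy (orderOf h)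

/-- The case of prime power order. -/
theorem conj_coset_prime [Finite G] {p q k : ℕ} [Fact p.Prime] [Fact q.Prime] (hpq : q ≠ p) {C O : Subgroup G}
    (hOC : O ≤ C) (hn : ∀ g ∈ C, ∀ o ∈ O, g * o * g⁻¹ ∈ O) (hO : IsPGroup p O) {y h : G} (hhC : h ∈ C)
    (hho : orderOf h = q ^ k) (hyo : orderOf y = q ^ k) (hy : h⁻¹ * y ∈ O) : ∃ u ∈ O, u * y * u⁻¹ = h := by
  have hnh : Subgroup.zpowers h ≤ Subgroup.normalizer (O : Set G) := by
    rw [Subgroup.zpowers_le, Subgroup.mem_normalizer_iff]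
    refine fun o => ⟨fun ho => hn h hhC o ho, fun ho => ?_⟩
    simpa [mul_assoc] using hn h⁻¹ (inv_mem hhC) _ ho
  have hpow : ∀ {i : ℤ}, h ^ i ∈ O → h ^ i = 1 := fun {i} hi => eq_one_of_coprime hO hi
    (((Nat.coprime_primes (Fact.out : q.Prime) (Fact.out : p.Prime)).2 hpq).pow_left k |>.coprime_dvd_left
      (hho ▸ orderOf_dvd_of_mem_zpowers (Subgroup.mem_zpowers_iff.2 ⟨i, rfl⟩)))
  set M := Subgroup.zpowers h ⊔ O
  have hset : ∀ d ∈ M, ∃ (i : ℤ), ∃ o ∈ O, h ^ i * o = d := by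
    intro d hd
    have e := Subgroup.coe_mul_of_left_le_normalizer_right (Subgroup.zpowers h) O hnh
    rw [← SetLike.mem_coe, e] at hd
    obtain ⟨a, ⟨i, rfl⟩, o, ho, he⟩ := Set.mem_mul.1 hd
    exact ⟨i, o, ho, he⟩
  obtain ⟨P, hP⟩ := ((IsPGroup.of_card (G := ↥(Subgroup.zpowers h)) (p := q) (n := k)
    (by rw [Nat.card_zpowers, hho])).of_equiv
      (Subgroup.subgroupOfEquivOfLe (show Subgroup.zpowers h ≤ M from le_sup_left)).symm).exists_le_sylow
  have hle : (P : Subgroup ↥M) ≤ (Subgroup.zpowers h).subgroupOf M := by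
    intro d hd
    obtain ⟨i, o, ho, he⟩ := hset d d.2
    have hoM : o ∈ M := Subgroup.mem_sup_right ho
    have hiM : h ^ i ∈ M := Subgroup.mem_sup_left ⟨i, rfl⟩
    have hoP : (⟨o, hoM⟩ : ↥M) ∈ (P : Subgroup ↥M) := by
      have e : (⟨o, hoM⟩ : ↥M) = (⟨h ^ i, hiM⟩ : ↥M)⁻¹ * d := Subtype.ext (by simp [← he])
      rw [e]
      exact mul_mem (inv_mem (hP (Subgroup.mem_subgroupOf.2 ⟨i, rfl⟩))) hd
    have ho1 : o = 1 := by
      obtain ⟨j, hj⟩ := P.2 ⟨_, hoP⟩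
      have hj' : o ^ q ^ j = 1 := by simpa using congrArg (fun z : ↥(P : Subgroup ↥M) => ((z : ↥M) : G)) hj
      exact eq_one_of_coprime hO ho
        ((((Nat.coprime_primes (Fact.out : q.Prime) (Fact.out : p.Prime)).2 hpq).pow_left j).coprime_dvd_left
          (orderOf_dvd_of_pow_eq_one hj'))
    exact Subgroup.mem_subgroupOf.2 ⟨i, by rw [← he, ho1, mul_one]⟩
  have hcard : Nat.card (Subgroup.zpowers h) = q ^ (Nat.card M).factorization q := by
    rw [← Nat.card_congr (Subgroup.subgroupOfEquivOfLe (show Subgroup.zpowers h ≤ M from le_sup_left)).toEquiv,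
      ← le_antisymm hle hP, P.card_eq_multiplicity]
  have hyM : y ∈ M := by
    rw [show y = h * (h⁻¹ * y) by group]
    exact mul_mem (Subgroup.mem_sup_left (Subgroup.mem_zpowers h)) (Subgroup.mem_sup_right hy)
  obtain ⟨d, hd, hdy⟩ := exists_conj_into le_sup_left hcard (Subgroup.zpowers_le.2 hyM)
    (IsPGroup.of_card (n := k) (by rw [Nat.card_zpowers, hyo]))
  obtain ⟨j, hj⟩ := hdy y (Subgroup.mem_zpowers y)
  obtain ⟨i, u, hu, rfl⟩ := hset d hd
  refine ⟨u, hu, ?_⟩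
  have huy : u * y * u⁻¹ = h ^ j := by
    calc u * y * u⁻¹ = (h ^ i)⁻¹ * (h ^ i * u * y * (h ^ i * u)⁻¹) * h ^ i := by group
      _ = h ^ j := by rw [← hj]; group
  have hmem : h ^ (j - 1) ∈ O := by
    rw [show h ^ (j - 1) = h⁻¹ * (u * y * u⁻¹) by rw [huy, ← zpow_neg_one, ← zpow_add]; congr 1; ring,
      show h⁻¹ * (u * y * u⁻¹) = (h⁻¹ * u * h⁻¹⁻¹) * (h⁻¹ * y) * u⁻¹ by group]
    exact mul_mem (mul_mem (hn _ (inv_mem hhC) u hu) hy) (inv_mem hu)
  rw [huy, show j = 1 + (j - 1) by ring, zpow_add, zpow_one, hpow hmem, mul_one]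

/-- Elements of order prime to `p` in one coset are conjugate. -/
theorem conj_coset [Finite G] {p : ℕ} [Fact p.Prime] : ∀ (n : ℕ) {C O : Subgroup G} (_ : O ≤ C)
    (_ : ∀ g ∈ C, ∀ o ∈ O, g * o * g⁻¹ ∈ O) (_ : IsPGroup p O) {y h : G} (_ : h ∈ C) (_ : orderOf h = n)
    (_ : (orderOf y).Coprime p) (_ : (orderOf h).Coprime p) (_ : h⁻¹ * y ∈ O),
    ∃ u ∈ O, u * y * u⁻¹ = h := by
  intro n
  induction n using Nat.strong_induction_on with
  | _ n ih =>
    intro C O hOC hn hO y h hhC hho hyp hhp hy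
    have hyC : y ∈ C := by
      rw [show y = h * (h⁻¹ * y) by group]; exact mul_mem hhC (hOC hy)
    have hnC : ∀ g ∈ C, ∀ o ∈ O, g⁻¹ * o * g ∈ O := fun g hg o ho => by
      simpa using hn g⁻¹ (inv_mem hg) o ho
    have hyh : y⁻¹ * h ∈ O := by simpa using inv_mem hy
    have heq : orderOf y = n := Nat.dvd_antisymm (hho ▸ order_coset hO (hnC h hhC) hy hyp)
      (hho ▸ order_coset hO (hnC y hyC) hyh hhp)
    by_cases hn1 : n = 1
    · subst hn1
      rw [orderOf_eq_one_iff] at hho heq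
      exact ⟨1, one_mem _, by rw [hho, heq]; simp⟩
    have hn0 : n ≠ 0 := hho ▸ (orderOf_pos h).ne'
    set q := n.minFac
    haveI : Fact q.Prime := ⟨Nat.minFac_prime hn1⟩
    obtain ⟨k, m, hm, hkm⟩ := Nat.exists_eq_pow_mul_and_not_dvd hn0 q (Fact.out : q.Prime).ne_one
    have hk : k ≠ 0 := by
      rintro rfl
      have e : m = n := by simpa using hkm.symm
      rw [e] at hm
      exact hm (Nat.minFac_dvd n)
    have hqp : q ≠ p := by
      intro e
      have h1 := Nat.Coprime.coprime_dvd_left (hho.symm ▸ Nat.minFac_dvd n : q ∣ orderOf h) hhp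
      rw [e, Nat.coprime_self] at h1
      exact (Fact.out : p.Prime).ne_one h1
    have hm0 : 0 < m := Nat.pos_of_ne_zero fun e => by simp [e] at hkm; exact hn0 hkm
    have hq0 : 0 < q ^ k := pow_pos (Fact.out : q.Prime).pos k
    have hom : ∀ a : G, orderOf a = n → orderOf (a ^ m) = q ^ k := fun a ha => by
      rw [orderOf_pow_of_dvd hm0.ne' (by rw [ha, hkm]; exact dvd_mul_left _ _), ha, hkm, Nat.mul_div_cancel _ hm0]
    have hoq : ∀ a : G, orderOf a = n → orderOf (a ^ q ^ k) = m := fun a ha => by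
      rw [orderOf_pow_of_dvd hq0.ne' (by rw [ha, hkm]; exact dvd_mul_right _ _), ha, hkm,
        Nat.mul_div_cancel_left _ hq0]
    obtain ⟨u, hu, huy⟩ := conj_coset_prime hqp hOC hn hO (pow_mem hhC m) (hom h hho) (hom y heq)
      (pow_coset (hnC h hhC) hy m)
    set y' := u * y * u⁻¹ with hy'
    have hy'o : orderOf y' = n := ((MulAut.conj u).orderOf_eq y).trans heq
    have hy'm : y' ^ m = h ^ m := by rw [hy', conj_pow, huy]
    have hy'O : h⁻¹ * y' ∈ O := by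
      rw [show h⁻¹ * y' = (h⁻¹ * u * h) * (h⁻¹ * y) * u⁻¹ by rw [hy']; group]
      exact mul_mem (mul_mem (hnC h hhC u hu) hy) (inv_mem hu)
    set Z := cent (h ^ m)
    have hhZ : h ∈ Z := mem_cent.2 (Commute.refl h |>.pow_right m).eq
    have hy'Z : y' ∈ Z := mem_cent.2 (hy'm ▸ (Commute.refl y').pow_right m).eq
    have hnZ : ∀ g ∈ C ⊓ Z, ∀ o ∈ O ⊓ Z, g * o * g⁻¹ ∈ O ⊓ Z := fun g hg o ho =>
      Subgroup.mem_inf.2 ⟨hn g hg.1 o ho.1, mul_mem (mul_mem hg.2 ho.2) (inv_mem hg.2)⟩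
    have hmemZ : (h ^ q ^ k)⁻¹ * y' ^ q ^ k ∈ O ⊓ Z :=
      Subgroup.mem_inf.2 ⟨pow_coset (hnC h hhC) hy'O _, mul_mem (inv_mem (pow_mem hhZ _)) (pow_mem hy'Z _)⟩
    have hlt : m < n := by
      rw [hkm]
      exact lt_mul_of_one_lt_left hm0 (one_lt_pow₀ (Fact.out : q.Prime).one_lt hk)
    have hmn : m ∣ n := hkm ▸ dvd_mul_left _ _
    obtain ⟨v, hv, hvy⟩ := ih m hlt (C := C ⊓ Z) (O := O ⊓ Z) (inf_le_inf_right _ hOC) hnZ
      (hO.to_le inf_le_left) (y := y' ^ q ^ k) (h := h ^ q ^ k)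
      (Subgroup.mem_inf.2 ⟨pow_mem hhC _, pow_mem hhZ _⟩) (hoq h hho)
      (by rw [hoq y' hy'o]; exact Nat.Coprime.coprime_dvd_left hmn (hho ▸ hhp))
      (by rw [hoq h hho]; exact Nat.Coprime.coprime_dvd_left hmn (hho ▸ hhp)) hmemZ
    refine ⟨v * u, mul_mem hv.1 hu, ?_⟩
    have hvm : (v * y' * v⁻¹) ^ m = h ^ m := by
      rw [conj_pow, hy'm, mem_cent.1 hv.2, mul_inv_cancel_right]
    have hvq : (v * y' * v⁻¹) ^ q ^ k = h ^ q ^ k := by rw [conj_pow, hvy]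
    obtain ⟨s, t, hst⟩ := Int.isCoprime_iff_gcd_eq_one.2 (show Int.gcd ((q ^ k : ℕ) : ℤ) (m : ℤ) = 1 by
      rw [Int.gcd_natCast_natCast]; exact ((Fact.out : q.Prime).coprime_iff_not_dvd.2 hm).pow_left k)
    have key : ∀ a : G, a = (a ^ q ^ k) ^ s * (a ^ m) ^ t := fun a => by
      rw [← zpow_natCast, ← zpow_natCast, ← zpow_mul, ← zpow_mul, ← zpow_add]
      rw [mul_comm ((q ^ k : ℕ) : ℤ) s, mul_comm (m : ℤ) t, hst, zpow_one]
    calc v * u * y * (v * u)⁻¹ = v * y' * v⁻¹ := by rw [hy']; group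
      _ = h := by rw [key (v * y' * v⁻¹), hvm, hvq, ← key]

/-- The classes of a subgroup under its own conjugations. -/
structure SubReps (H : Subgroup G) (n : ℕ) where
  rep : Fin n → G
  mem : ∀ i, rep i ∈ H
  apart : ∀ i j, ∀ k ∈ H, k * rep i * k⁻¹ = rep j → i = j
  cover : ∀ h ∈ H, ∃ i, ∃ k ∈ H, k * h * k⁻¹ = rep i

/-- Representatives from a complement. -/
noncomputable def centRepsCompl [Finite G] {x : G} {p : ℕ} [Fact p.Prime] (hx : orderOf x = p) {O H : Subgroup G}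
    (hO : O ≤ cent x) (hH : H ≤ cent x) (hOp : IsPGroup p O)
    (hn : ∀ g ∈ cent x, ∀ o ∈ O, g * o * g⁻¹ ∈ O) (hcard : Nat.card H * Nat.card O = Nat.card (cent x))
    (hHp : (Nat.card H).Coprime p) {Q : G → Prop} (hQ : ∀ h ∈ H, Q h) {n : ℕ} (R : SubReps H n) :
    CentReps x Q n := by
  have hord : ∀ h ∈ H, (orderOf h).Coprime p := fun h hh => hHp.coprime_dvd_left (by
    rw [← Subgroup.orderOf_mk _ hh]; exact orderOf_dvd_natCard _)
  have hdis : ∀ a, a ∈ H → a ∈ O → a = 1 := fun a ha ha' => eq_one_of_coprime hOp ha' (hord a ha)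
  have hdec : ∀ c ∈ cent x, ∃ h ∈ H, h⁻¹ * c ∈ O := by
    let f : ↥H × ↥O → ↥(cent x) := fun a => ⟨(a.1 : G) * a.2, mul_mem (hH a.1.2) (hO a.2.2)⟩
    have hf : Function.Injective f := fun a b e => by
      have e' : (a.1 : G) * a.2 = b.1 * b.2 := congrArg Subtype.val e
      have h1 := hdis ((b.1 : G)⁻¹ * a.1) (mul_mem (inv_mem b.1.2) a.1.2) (by
        rw [show (b.1 : G)⁻¹ * a.1 = b.2 * (a.2 : G)⁻¹ by
          rw [eq_mul_inv_iff_mul_eq, mul_assoc, e', inv_mul_cancel_left]]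
        exact mul_mem b.2.2 (inv_mem a.2.2))
      rw [inv_mul_eq_one] at h1
      rw [h1] at e'
      exact Prod.ext (Subtype.ext h1.symm) (Subtype.ext (mul_left_cancel e'))
    intro c hc
    obtain ⟨⟨a, b⟩, e⟩ := ((Nat.bijective_iff_injective_and_card f).2
      ⟨hf, by rw [Nat.card_prod, hcard]⟩).2 ⟨c, hc⟩
    refine ⟨a, a.2, ?_⟩
    rw [← show (a : G) * b = c from congrArg Subtype.val e, inv_mul_cancel_left]
    exact b.2
  refine ⟨R.rep, fun i => (mem_cent.1 (hH (R.mem i))).symm, fun i => by rw [hx]; exact hord _ (R.mem i),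
    fun i => hQ _ (R.mem i), fun i j c hc h => ?_, fun y hy hcop _ => ?_⟩
  · obtain ⟨k, hk, o, ho, rfl⟩ : ∃ k ∈ H, ∃ o ∈ O, k * o = c := by
      obtain ⟨k, hk, hko⟩ := hdec c (mem_cent.2 hc.eq)
      exact ⟨k, hk, _, hko, mul_inv_cancel_left k c⟩
    refine R.apart i j k hk ?_
    set a := R.rep i
    have ha : a ∈ H := R.mem i
    have h1 : (k * a * k⁻¹)⁻¹ * R.rep j ∈ O := by
      rw [← h, show (k * a * k⁻¹)⁻¹ * (k * o * a * (k * o)⁻¹) = k * ((a⁻¹ * o * a⁻¹⁻¹) * o⁻¹) * k⁻¹ by group]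
      exact hn k (hH hk) _ (mul_mem (hn _ (inv_mem (hH ha)) o ho) (inv_mem ho))
    have h2 := hdis _ (mul_mem (inv_mem (mul_mem (mul_mem hk ha) (inv_mem hk))) (R.mem j)) h1
    exact inv_mul_eq_one.1 h2
  · rw [hx] at hcop
    obtain ⟨h, hh, hho⟩ := hdec y (mem_cent.2 hy.eq.symm)
    obtain ⟨u, hu, huy⟩ := conj_coset (p := p) _ hO hn hOp (hH hh) rfl hcop (hord h hh) hho
    obtain ⟨i, k, hk, hki⟩ := R.cover h hh
    refine ⟨i, k * u, mem_cent.1 (mul_mem (hH hk) (hO hu)), ?_⟩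
    rw [← hki, ← huy]
    group

end CfsgLib.JFourClasses
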