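import Mathlib

/-!
# Counting conjugacy classes part by part

A conjugation invariant set contributes the number of classes it meets; the elements with a part of order `p`
are counted in the centralizers of representatives of the elements of order `p`.
-/

set_option autoImplicit false
set_option linter.style.haveILetI false

namespace CfsgLib.JFourClasses

variable {G : Type*} [Group G]

/-- The number of classes meeting a set. -/
noncomputable def ncls (S : Set G) : ℕ := (ConjClasses.mk '' S).ncard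

/-- Classes with a list of representatives. -/
structure Reps (S : Set G) (n : ℕ) where
  rep : Fin n → G
  mem : ∀ i, rep i ∈ S
  apart : ∀ i j, IsConj (rep i) (rep j) → i = j
  cover : ∀ g ∈ S, ∃ i, IsConj g (rep i)

theorem Reps.ncls_eq {S : Set G} {n : ℕ} (R : Reps S n) : ncls S = n := by
  have h : ConjClasses.mk '' S = Set.range fun i => ConjClasses.mk (R.rep i) := by
    ext c
    constructor
    · rintro ⟨g, hg, rfl⟩
      obtain ⟨i, hi⟩ := R.cover g hg
      exact ⟨i, ConjClasses.mk_eq_mk_iff_isConj.2 hi.symm⟩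
    · rintro ⟨i, rfl⟩
      exact ⟨_, R.mem i, rfl⟩
  rw [ncls, h, Set.ncard_range_of_injective fun i j e => R.apart i j (ConjClasses.mk_eq_mk_iff_isConj.1 e),
    Nat.card_fin]

theorem ncls_univ : ncls (Set.univ : Set G) = Nat.card (ConjClasses G) := by
  rw [ncls, Set.image_univ, Set.range_eq_univ.2 ConjClasses.mk_surjective, Set.ncard_univ]

theorem ncls_union [Finite G] {S T : Set G} (hd : Disjoint S T) (hS : ∀ a b, IsConj a b → a ∈ S → b ∈ S) :
    ncls (S ∪ T) = ncls S + ncls T := by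
  rw [ncls, Set.image_union, Set.ncard_union_eq _ (Set.toFinite _) (Set.toFinite _)]
  · rfl
  rw [Set.disjoint_left]
  rintro _ ⟨a, ha, rfl⟩ ⟨b, hb, he⟩
  exact Set.disjoint_left.1 hd (hS a b (ConjClasses.mk_eq_mk_iff_isConj.1 he).symm ha) hb

/-- The number of classes of a set split by a conjugation invariant condition. -/
theorem ncls_split [Finite G] (S : Set G) (P : G → Prop) (hP : ∀ a b, IsConj a b → P a → P b)
    (hS : ∀ a b, IsConj a b → a ∈ S → b ∈ S) :
    ncls S = ncls {g | g ∈ S ∧ P g} + ncls {g | g ∈ S ∧ ¬ P g} := by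
  rw [← ncls_union]
  · congr 1
    ext g
    simp only [Set.mem_union, Set.mem_setOf_eq]
    tauto
  · rw [Set.disjoint_left]
    exact fun g h1 h2 => h2.2 h1.2
  · exact fun a b h ha => ⟨hS a b h ha.1, hP a b h ha.2⟩

theorem orderOf_of_isConj {a b : G} (h : IsConj a b) : orderOf a = orderOf b := by
  obtain ⟨c, rfl⟩ := isConj_iff.1 h
  exact ((MulAut.conj c).orderOf_eq a).symm

/-- An element with a part of order `p`. -/
theorem exists_part [Finite G] {p : ℕ} (hp : p.Prime) {g : G} (h : p ∣ orderOf g)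
    (h2 : ¬ p ^ 2 ∣ orderOf g) :
    ∃ x y : G, g = x * y ∧ Commute x y ∧ orderOf x = p ∧ (orderOf y).Coprime p ∧
      orderOf g = p * orderOf y ∧ x ∈ Subgroup.zpowers g ∧ y ∈ Subgroup.zpowers g := by
  obtain ⟨m, hm⟩ := h
  have hm0 : m ≠ 0 := fun e => (orderOf_pos g).ne' (by rw [hm, e, mul_zero])
  have hcop : Nat.Coprime p m := (hp.coprime_iff_not_dvd).2 fun hd => h2 (by rw [hm, pow_two]; exact mul_dvd_mul_left p hd)
  obtain ⟨a, b, hab⟩ := Int.isCoprime_iff_gcd_eq_one.2 (show Int.gcd (p : ℤ) m = 1 by simpa using hcop)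
  have hgo : g ^ ((p : ℤ) * m) = 1 := by rw [← Nat.cast_mul, zpow_natCast, ← hm, pow_orderOf_eq_one]
  set x := g ^ (b * (m : ℤ)) with hx
  set y := g ^ (a * (p : ℤ)) with hy
  have hxy : g = x * y := by rw [hx, hy, ← zpow_add, add_comm, hab, zpow_one]
  have hc : Commute x y := (Commute.refl g).zpow_zpow _ _
  have hxp : x ^ p = 1 := by
    rw [hx, ← zpow_natCast, ← zpow_mul, show b * (m : ℤ) * p = (p : ℤ) * m * b by ring, zpow_mul, hgo, one_zpow]
  have hym : y ^ m = 1 := by
    rw [hy, ← zpow_natCast, ← zpow_mul, show a * (p : ℤ) * m = (p : ℤ) * m * a by ring, zpow_mul, hgo, one_zpow]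
  have hoy : orderOf y ∣ m := orderOf_dvd_of_pow_eq_one hym
  have hox : orderOf x ∣ p := orderOf_dvd_of_pow_eq_one hxp
  have hdiv : orderOf g ∣ orderOf x * orderOf y := by
    rw [hxy]; exact hc.orderOf_mul_dvd_mul_orderOf
  have hx1 : orderOf x = p := by
    rcases (Nat.dvd_prime hp).1 hox with e | e
    · exfalso
      rw [e, one_mul, hm] at hdiv
      have := Nat.le_of_dvd (Nat.pos_of_ne_zero hm0) (hdiv.trans hoy)
      have := hp.two_le
      nlinarith [Nat.pos_of_ne_zero hm0]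
    · exact e
  have hym' : orderOf y = m :=
    Nat.dvd_antisymm hoy ((Nat.mul_dvd_mul_iff_left hp.pos).1 (by rwa [hx1, hm] at hdiv))
  exact ⟨x, y, hxy, hc, hx1, by rw [hym']; exact hcop.symm, by rw [hm, hym'], ⟨_, rfl⟩, ⟨_, rfl⟩⟩

/-- Conjugate products have conjugate parts. -/
theorem conj_parts {p : ℕ} {x y x' y' c : G} (hx : x ^ p = 1) (hx' : x' ^ p = 1) (hc : Commute x y)
    (hc' : Commute x' y') (hy : (orderOf y).Coprime p) (hy' : (orderOf y').Coprime p)
    (h : c * (x * y) * c⁻¹ = x' * y') : c * x * c⁻¹ = x' ∧ c * y * c⁻¹ = y' := by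
  set n := orderOf y * orderOf y'
  have hn : Nat.Coprime n p := Nat.Coprime.mul_left hy hy'
  obtain ⟨a, b, hab⟩ := Int.isCoprime_iff_gcd_eq_one.2 (show Int.gcd (n : ℤ) p = 1 by simpa using hn)
  have key : ∀ u v : G, u ^ p = 1 → Commute u v → v ^ n = 1 → (u * v) ^ (a * (n : ℤ)) = u := by
    intro u v hu huv hv
    rw [huv.mul_zpow, show v ^ (a * (n : ℤ)) = 1 by rw [mul_comm, zpow_mul, zpow_natCast, hv, one_zpow], mul_one,
      show a * (n : ℤ) = 1 - b * p by linarith, zpow_sub, zpow_one, mul_comm b, zpow_mul, zpow_natCast, hu,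
      one_zpow, inv_one, mul_one]
  have h1 : c * x * c⁻¹ = x' := by
    rw [← key x y hx hc (orderOf_dvd_iff_pow_eq_one.1 (Dvd.intro _ rfl)), ← conj_zpow, h,
      key x' y' hx' hc' (orderOf_dvd_iff_pow_eq_one.1 (Dvd.intro_left _ rfl))]
  refine ⟨h1, ?_⟩
  have h2 : c * (x * y) * c⁻¹ = (c * x * c⁻¹) * (c * y * c⁻¹) := by group
  rw [h, h1] at h2
  exact mul_left_cancel h2.symm

/-- The classes of the elements with a part conjugate to `x`, in the centralizer of `x`. -/
structure CentReps (x : G) (Q : G → Prop) (n : ℕ) where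
  rep : Fin n → G
  comm : ∀ i, Commute x (rep i)
  cop : ∀ i, (orderOf (rep i)).Coprime (orderOf x)
  good : ∀ i, Q (rep i)
  apart : ∀ i j c, Commute c x → c * rep i * c⁻¹ = rep j → i = j
  cover : ∀ y, Commute x y → (orderOf y).Coprime (orderOf x) → Q y →
    ∃ i c, Commute c x ∧ c * y * c⁻¹ = rep i

/-- The elements with a part of order `p` conjugate to one of the listed ones. -/
theorem ncls_parts [Finite G] {p : ℕ} (hp : p.Prime) (S : Set G) {k : ℕ} (x : Fin k → G)
    (hx : ∀ a, orderOf (x a) = p) (hxa : ∀ a b, IsConj (x a) (x b) → a = b)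
    (hxc : ∀ u, orderOf u = p → ∃ a, IsConj u (x a)) (Q : G → Prop)
    (hQ : ∀ a b, IsConj a b → Q a → Q b) (h2 : ∀ g ∈ S, ¬ p ^ 2 ∣ orderOf g)
    (hS : ∀ g, g ∈ S ↔ p ∣ orderOf g ∧ ∀ u v, g = u * v → Commute u v → orderOf u = p →
      (orderOf v).Coprime p → Q v)
    (n : Fin k → ℕ) (R : ∀ a, CentReps (x a) Q (n a)) : ncls S = ∑ a, n a := by
  let f : (Σ a, Fin (n a)) → ConjClasses G := fun q => ConjClasses.mk (x q.1 * (R q.1).rep q.2)
  have hcop : ∀ a i, (orderOf ((R a).rep i)).Coprime p := fun a i => hx a ▸ (R a).cop i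
  have hpow : ∀ a, x a ^ p = 1 := fun a => by rw [← hx a, pow_orderOf_eq_one]
  have hinj : Function.Injective f := by
    rintro ⟨a, i⟩ ⟨b, j⟩ h
    obtain ⟨c, hc⟩ := isConj_iff.1 (ConjClasses.mk_eq_mk_iff_isConj.1 h)
    obtain ⟨h1, h2⟩ := conj_parts (hpow a) (hpow b) ((R a).comm i) ((R b).comm j) (hcop a i) (hcop b j) hc
    obtain rfl := hxa a b (isConj_iff.2 ⟨c, h1⟩)
    obtain rfl := (R a).apart i j c (mul_inv_eq_iff_eq_mul.1 h1) h2
    rfl
  have hrange : ConjClasses.mk '' S = Set.range f := by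
    ext C
    constructor
    · rintro ⟨g, hg, rfl⟩
      obtain ⟨hdvd, hQg⟩ := (hS g).1 hg
      obtain ⟨u, v, rfl, huv, hu, hv, -, -, -⟩ := exists_part hp hdvd (h2 g hg)
      obtain ⟨a, ha⟩ := hxc u hu
      obtain ⟨c, hc⟩ := isConj_iff.1 ha
      have hcv : Commute (x a) (c * v * c⁻¹) := by
        rw [← hc]; exact huv.map (MulAut.conj c).toMonoidHom
      have hov : orderOf (c * v * c⁻¹) = orderOf v := (MulAut.conj c).orderOf_eq v
      obtain ⟨i, d, hd, hdi⟩ := (R a).cover _ hcv (by rw [hov, hx a]; exact hv)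
        (hQ v _ (isConj_iff.2 ⟨c, rfl⟩) (hQg u v rfl huv hu hv))
      refine ⟨⟨a, i⟩, ConjClasses.mk_eq_mk_iff_isConj.2 (isConj_iff.2 ⟨d * c, ?_⟩).symm⟩
      have hdx : d * x a * d⁻¹ = x a := by rw [hd.eq, mul_inv_cancel_right]
      calc d * c * (u * v) * (d * c)⁻¹ = (d * (c * u * c⁻¹) * d⁻¹) * (d * (c * v * c⁻¹) * d⁻¹) := by group
        _ = _ := by rw [hc, hdx, hdi]
    · rintro ⟨⟨a, i⟩, rfl⟩
      refine ⟨x a * (R a).rep i, (hS _).2 ⟨?_, fun u v he huv hu hv => ?_⟩, rfl⟩
      · rw [((R a).comm i).orderOf_mul_eq_mul_orderOf_of_coprime (by rw [hx a]; exact (hcop a i).symm), hx a]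
        exact Dvd.intro _ rfl
      · obtain ⟨-, h2'⟩ := conj_parts (c := 1) (hpow a) (by rw [← hu, pow_orderOf_eq_one]) ((R a).comm i) huv
          (hcop a i) hv (by simpa using he)
        exact (by simpa using h2') ▸ (R a).good i
  rw [ncls, hrange, Set.ncard_range_of_injective hinj, Nat.card_eq_fintype_card, Fintype.card_sigma]
  simp

end CfsgLib.JFourClasses
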