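import Cfsg.Agent.Lib.JFourClasses.Complement
import Cfsg.Agent.Lib.JFourPrime.Large

/-!
# The primes with a cyclic Sylow subgroup of prime order
-/

set_option autoImplicit false
set_option linter.style.haveILetI false

namespace CfsgLib.JFourClasses

open CfsgLib.JFourPrime

variable {G : Type*} [Group G]

/-- The elements of order `p`. -/
def ordSet (G : Type*) [Group G] (p : ℕ) : Set G := {u | orderOf u = p}

theorem not_sq_dvd_order {p : ℕ} (h : ¬ p ^ 2 ∣ Nat.card G) (g : G) : ¬ p ^ 2 ∣ orderOf g :=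
  fun hd => h (hd.trans (orderOf_dvd_natCard g))

/-- A generator of the subgroup of a prime order. -/
theorem zpowers_eq_of_mem [Finite G] {p : ℕ} (hp : p.Prime) {x a : G} (hx : orderOf x = p)
    (ha : a ∈ Subgroup.zpowers x) (ha1 : a ≠ 1) :
    orderOf a = p ∧ Subgroup.zpowers a = Subgroup.zpowers x := by
  have ho : orderOf a = p := ((Nat.dvd_prime hp).1 (hx ▸ orderOf_dvd_of_mem_zpowers ha)).resolve_left
    fun h => ha1 (orderOf_eq_one_iff.1 h)
  exact ⟨ho, Subgroup.eq_of_le_of_card_ge (Subgroup.zpowers_le.2 ha)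
    (by rw [Nat.card_zpowers, Nat.card_zpowers, ho, hx])⟩

/-- The classes of elements of order `p`, times their share of a subgroup of order `p`. -/
theorem card_classes_prime [Finite G] {p e : ℕ} (hp : p.Prime) (hG : ¬ p ^ 2 ∣ Nat.card G) {x : G}
    (hx : orderOf x = p) (hN : Nat.card (norm x) = Nat.card (cent x) * e) : ncls (ordSet G p) * e = p - 1 := by
  classical
  haveI : Fintype G := Fintype.ofFinite G
  set P := Subgroup.zpowers x with hPdef
  set C := cent x with hCdef
  set N := norm x with hNdef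
  have hPN : ∀ n ∈ N, ∀ a ∈ P, n * a * n⁻¹ ∈ P := fun n hn a ha => (Subgroup.mem_normalizer_iff.1 hn a).1 ha
  have hcentA : ∀ a ∈ P, a ≠ 1 → ∀ c, (c ∈ C ↔ c * a * c⁻¹ = a) := by
    intro a ha ha1 c
    have hP := (zpowers_eq_of_mem hp hx ha ha1).2
    rw [mem_cent, mul_inv_eq_iff_eq_mul]
    constructor
    · intro h
      obtain ⟨i, rfl⟩ := Subgroup.mem_zpowers_iff.1 ha
      exact ((show Commute c x from h).zpow_right i).eq
    · intro h
      obtain ⟨i, hi⟩ := Subgroup.mem_zpowers_iff.1 (hP.ge (Subgroup.mem_zpowers x))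
      rw [← hi]
      exact ((show Commute c a from h).zpow_right i).eq
  have hfus : ∀ a ∈ P, a ≠ 1 → ∀ b ∈ P, ∀ c, c * a * c⁻¹ = b → c ∈ N := by
    intro a ha ha1 b hb c hc
    have hb1 : b ≠ 1 := fun h => ha1 (by rw [h, conj_eq_one_iff] at hc; exact hc)
    show c ∈ Subgroup.normalizer (P : Set G)
    rw [Subgroup.mem_normalizer_iff_map_conj_eq]
    show P.map _ = P
    rw [hPdef, ← (zpowers_eq_of_mem hp hx ha ha1).2, MonoidHom.map_zpowers]
    show Subgroup.zpowers (c * a * c⁻¹) = _
    rw [hc, (zpowers_eq_of_mem hp hx hb hb1).2, (zpowers_eq_of_mem hp hx ha ha1).2]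
  have hfib : ∀ a ∈ P, a ≠ 1 → Nat.card {b : G // b ∈ P ∧ b ≠ 1 ∧ IsConj a b} = e := by
    intro a ha ha1
    let f : ↥N → {b : G // b ∈ P ∧ b ≠ 1 ∧ IsConj a b} := fun n => ⟨(n : G) * a * (n : G)⁻¹, hPN n n.2 a ha,
      fun h => ha1 (conj_eq_one_iff.1 h), isConj_iff.2 ⟨n, rfl⟩⟩
    have hcC : ∀ b, Nat.card {n : ↥N // f n = b} = Nat.card C := by
      intro b
      obtain ⟨c, hc⟩ := isConj_iff.1 b.2.2.2
      have hcN := hfus a ha ha1 b.1 b.2.1 c hc
      have hCN : ∀ d ∈ C, d ∈ N := fun d hd => hfus a ha ha1 a ha d ((hcentA a ha ha1 d).1 hd)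
      refine Nat.card_congr
        { toFun := fun n => ⟨c⁻¹ * n.1, (hcentA a ha ha1 _).2 ?_⟩
          invFun := fun d => ⟨⟨c * d, mul_mem hcN (hCN d d.2)⟩, ?_⟩
          left_inv := fun n => Subtype.ext (Subtype.ext (mul_inv_cancel_left c _))
          right_inv := fun d => Subtype.ext (inv_mul_cancel_left c _) }
      · have hn : (n.1 : G) * a * (n.1 : G)⁻¹ = b.1 := congrArg Subtype.val n.2
        calc c⁻¹ * n.1 * a * (c⁻¹ * n.1)⁻¹ = c⁻¹ * ((n.1 : G) * a * (n.1 : G)⁻¹) * c := by group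
          _ = a := by rw [hn, ← hc]; group
      · refine Subtype.ext ?_
        show c * d * a * (c * d)⁻¹ = b.1
        calc c * (d : G) * a * (c * d)⁻¹ = c * ((d : G) * a * (d : G)⁻¹) * c⁻¹ := by group
          _ = b.1 := by rw [(hcentA a ha ha1 _).1 d.2, hc]
    have h := Nat.card_congr (Equiv.sigmaFiberEquiv f).symm
    rw [Nat.card_sigma, Finset.sum_congr rfl fun b _ => hcC b, Finset.sum_const, smul_eq_mul, Finset.card_univ,
      ← Nat.card_eq_fintype_card, hN, mul_comm (Nat.card C) e] at h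
    exact (Nat.eq_of_mul_eq_mul_right Nat.card_pos h).symm
  have hall : ∀ C' ∈ ConjClasses.mk '' ordSet G p, ∃ a ∈ P, a ≠ 1 ∧ ConjClasses.mk a = C' := by
    rintro _ ⟨u, hu, rfl⟩
    obtain ⟨c, hc⟩ := exists_conj_mem hp hG (H := P) (by rw [hPdef, Nat.card_zpowers, hx]) hu
    refine ⟨_, hc, fun h => ?_, ConjClasses.mk_eq_mk_iff_isConj.2 (isConj_iff.2 ⟨c, rfl⟩).symm⟩
    rw [conj_eq_one_iff] at h
    rw [h] at hu
    have : orderOf (1 : G) = p := hu
    rw [orderOf_one] at this
    exact hp.one_lt.ne this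
  let g : {a : G // a ∈ P ∧ a ≠ 1} → ↥(ConjClasses.mk '' ordSet G p) := fun a =>
    ⟨ConjClasses.mk a.1, a.1, (zpowers_eq_of_mem hp hx a.2.1 a.2.2).1, rfl⟩
  have hg : ∀ C', Nat.card {a // g a = C'} = e := by
    rintro ⟨C', hC'⟩
    obtain ⟨a, ha, ha1, rfl⟩ := hall C' hC'
    rw [← hfib a ha ha1]
    exact Nat.card_congr
      { toFun := fun b => ⟨b.1.1, b.1.2.1, b.1.2.2,
          (ConjClasses.mk_eq_mk_iff_isConj.1 (congrArg Subtype.val b.2)).symm⟩
        invFun := fun b => ⟨⟨b.1, b.2.1, b.2.2.1⟩,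
          Subtype.ext (ConjClasses.mk_eq_mk_iff_isConj.2 b.2.2.2.symm)⟩
        left_inv := fun _ => rfl
        right_inv := fun _ => rfl }
  have h := Nat.card_congr (Equiv.sigmaFiberEquiv g).symm
  rw [Nat.card_sigma, Finset.sum_congr rfl fun b _ => hg b, Finset.sum_const, smul_eq_mul, Finset.card_univ,
    ← Nat.card_eq_fintype_card, Nat.card_coe_set_eq] at h
  have hP1 : Nat.card {a : G // a ∈ P ∧ a ≠ 1} = p - 1 := by
    show Nat.card ↥((P : Set G) \ {1}) = p - 1
    rw [Nat.card_coe_set_eq, Set.ncard_diff_singleton_of_mem (one_mem P), ← Nat.card_coe_set_eq]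
    show Nat.card ↥P - 1 = _
    rw [hPdef, Nat.card_zpowers, hx]
  exact h.symm.trans hP1

/-- The elements with largest prime `p`, when every centralizer of an element of order `p` gives `n` classes. -/
theorem ncls_cyclic [Finite G] {p e k n : ℕ} (hp : p.Prime) (hG : ¬ p ^ 2 ∣ Nat.card G) {x : G}
    (hx : orderOf x = p) (hN : Nat.card (norm x) = Nat.card (cent x) * e) (hk : k * e = p - 1) (he : 0 < e)
    (R : ∀ u : G, orderOf u = p → Nonempty (CentReps u (Small p) n)) : ncls (topSet G p) = k * n := by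
  classical
  have hkn : ncls (ordSet G p) = k :=
    Nat.eq_of_mul_eq_mul_right he ((card_classes_prime hp hG hx hN).trans hk.symm)
  have hcard : Nat.card ↥(ConjClasses.mk '' ordSet G p) = k := hkn
  let eq := (Finite.equivFinOfCardEq hcard).symm
  have hex : ∀ a : Fin k, ∃ u, orderOf u = p ∧ ConjClasses.mk u = (eq a).1 := fun a => by
    obtain ⟨u, hu, h⟩ := (eq a).2
    exact ⟨u, hu, h⟩
  choose xs hxs hmk using hex
  rw [ncls_top hp (not_sq_dvd_order hG) xs hxs (fun a b h => eq.injective (Subtype.ext (by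
      rw [← hmk a, ← hmk b]; exact ConjClasses.mk_eq_mk_iff_isConj.2 h)))
    (fun u hu => ⟨eq.symm ⟨_, u, hu, rfl⟩, ConjClasses.mk_eq_mk_iff_isConj.1 (by
      rw [hmk, Equiv.apply_symm_apply])⟩) (fun _ => n) fun a => (R _ (hxs a)).some]
  simp

/-- Representatives of the classes of a subgroup from their number. -/
noncomputable def SubReps.ofCard [Finite G] (H : Subgroup G) {n : ℕ} (h : Nat.card (ConjClasses ↥H) = n) :
    SubReps H n where
  rep i := ((Finite.equivFinOfCardEq h).symm i).exists_rep.choose.1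
  mem i := ((Finite.equivFinOfCardEq h).symm i).exists_rep.choose.2
  apart i j k hk e := by
    apply (Finite.equivFinOfCardEq h).symm.injective
    rw [← ((Finite.equivFinOfCardEq h).symm i).exists_rep.choose_spec,
      ← ((Finite.equivFinOfCardEq h).symm j).exists_rep.choose_spec]
    exact ConjClasses.mk_eq_mk_iff_isConj.2 (isConj_iff.2 ⟨⟨k, hk⟩, Subtype.ext e⟩)
  cover y hy := by
    refine ⟨Finite.equivFinOfCardEq h (ConjClasses.mk ⟨y, hy⟩), ?_⟩
    have hs := ((Finite.equivFinOfCardEq h).symm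
      (Finite.equivFinOfCardEq h (ConjClasses.mk ⟨y, hy⟩))).exists_rep.choose_spec
    obtain ⟨c, hc⟩ := isConj_iff.1 (ConjClasses.mk_eq_mk_iff_isConj.1
      (hs.trans ((Finite.equivFinOfCardEq h).symm_apply_apply _))).symm
    exact ⟨c, c.2, congrArg Subtype.val hc⟩

theorem card_partition_five : Fintype.card (Nat.Partition 5) ≤ 7 := by
  classical
  let S : Finset (Fin 6 × Fin 3 × Fin 2 × Fin 2 × Fin 2) := Finset.univ.filter
    (fun c => c.1.val + 2 * c.2.1.val + 3 * c.2.2.1.val + 4 * c.2.2.2.1.val + 5 * c.2.2.2.2.val = 5)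
  have hsum : ∀ π : Nat.Partition 5, π.parts.count 1 + 2 * π.parts.count 2 + 3 * π.parts.count 3 +
      4 * π.parts.count 4 + 5 * π.parts.count 5 = 5 := by
    intro π
    have hle : ∀ i ∈ π.parts, i ≤ 5 := fun i hi => (Multiset.le_sum_of_mem hi).trans_eq π.parts_sum
    have h := Finset.sum_multiset_count π.parts
    rw [π.parts_sum, Finset.sum_subset (s₂ := ({1, 2, 3, 4, 5} : Finset ℕ))] at h
    · simp at h; omega
    · intro i hi
      have hi' := Multiset.mem_toFinset.mp hi
      have := hle i hi'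
      have := π.parts_pos hi'
      simp; omega
    · intro i _ hi
      rw [Multiset.count_eq_zero_of_notMem (fun h => hi (Multiset.mem_toFinset.mpr h)), zero_smul]
  let f : Nat.Partition 5 → S := fun π =>
    ⟨(⟨π.parts.count 1, by have := hsum π; omega⟩, ⟨π.parts.count 2, by have := hsum π; omega⟩,
      ⟨π.parts.count 3, by have := hsum π; omega⟩, ⟨π.parts.count 4, by have := hsum π; omega⟩,
      ⟨π.parts.count 5, by have := hsum π; omega⟩), by
      simp only [S, Finset.mem_filter, Finset.mem_univ, true_and]; exact hsum π⟩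
  have hf : Function.Injective f := by
    intro π σ h
    simp only [f, Subtype.mk.injEq, Prod.mk.injEq, Fin.mk.injEq] at h
    apply Nat.Partition.ext
    refine Multiset.ext.mpr fun i => ?_
    by_cases hi : 1 ≤ i ∧ i ≤ 5
    · obtain ⟨h1, h5⟩ := hi
      interval_cases i <;> tauto
    · have hz : ∀ ρ : Nat.Partition 5, ρ.parts.count i = 0 := fun ρ =>
        Multiset.count_eq_zero_of_notMem fun hm =>
          hi ⟨ρ.parts_pos hm, (Multiset.le_sum_of_mem hm).trans_eq ρ.parts_sum⟩
      rw [hz, hz]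
  refine (Fintype.card_le_of_injective f hf).trans ?_
  rw [Fintype.card_coe]
  decide +kernel

theorem card_conjClasses_perm_five : Nat.card (ConjClasses (Equiv.Perm (Fin 5))) = 7 := by
  classical
  refine le_antisymm ?_ ?_
  · let f : ConjClasses (Equiv.Perm (Fin 5)) → Nat.Partition (Fintype.card (Fin 5)) :=
      Quotient.lift Equiv.Perm.partition fun a b h => Equiv.Perm.partition_eq_of_isConj.1 h
    have hf : Function.Injective f := by
      intro a b
      induction a using Quotient.inductionOn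
      induction b using Quotient.inductionOn
      exact fun h => Quotient.sound (Equiv.Perm.partition_eq_of_isConj.2 h)
    refine (Nat.card_le_card_of_injective f hf).trans ?_
    rw [Nat.card_eq_fintype_card, Fintype.card_fin]
    exact card_partition_five
  · let w : Fin 7 → Equiv.Perm (Fin 5) := ![1, Equiv.swap 0 1, Equiv.swap 0 1 * Equiv.swap 2 3,
      Equiv.swap 0 1 * Equiv.swap 1 2, Equiv.swap 0 1 * Equiv.swap 1 2 * Equiv.swap 2 3,
      Equiv.swap 0 1 * Equiv.swap 1 2 * Equiv.swap 2 3 * Equiv.swap 3 4,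
      Equiv.swap 0 1 * Equiv.swap 1 2 * Equiv.swap 3 4]
    have key : ∀ i j : Fin 7, (∀ m : Fin 7, w i ^ m.val = 1 ↔ w j ^ m.val = 1) →
        Equiv.Perm.sign (w i) = Equiv.Perm.sign (w j) → i = j := by decide +kernel
    have := Nat.card_le_card_of_injective (fun i => ConjClasses.mk (w i)) fun i j h => by
      obtain ⟨c, hc⟩ := isConj_iff.1 (ConjClasses.mk_eq_mk_iff_isConj.1 h)
      refine key i j (fun m => ?_) (by rw [← hc, map_mul, map_mul, map_inv, mul_comm, inv_mul_cancel_left])
      rw [← hc, conj_pow, conj_eq_one_iff]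
    rwa [Nat.card_fin] at this

end CfsgLib.JFourClasses
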