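import Cfsg.Agent.Lib.JFourPrime.Eleven
import Cfsg.Agent.Lib.JFourLocal.SevenSetup

/-!
# Numerical facts of a group of Janko-four type, stated so that they pass along an isomorphism
-/

set_option autoImplicit false
set_option maxRecDepth 100000
set_option linter.style.haveILetI false
set_option linter.unusedSectionVars false

open Cfsg

namespace CfsgLib.JFourClasses

open CfsgLib.JFourPrime

/-- The facts used in counting the classes. -/
structure Num (H : Type*) [Group H] : Prop where
  card : Nat.card H = 86775571046077562880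
  three : ∀ x y : H, orderOf x = 3 → orderOf y = 3 → IsConj x y
  no_nine : ∀ g : H, orderOf g ≠ 9
  no_121 : ∀ g : H, orderOf g ≠ 121
  cent_three : ∀ s : H, orderOf s = 3 → Nat.card (cent s) = 2661120
  cent_three_inv : ∀ s : H, orderOf s = 3 → ∃ i : H, orderOf i = 2 ∧ ∀ c ∈ cent s, Commute c i
  cent_five : ∀ s : H, orderOf s = 5 → Nat.card (cent s) = 6720
  norm_five : ∀ s : H, orderOf s = 5 → Nat.card (norm s) = 26880
  cent_seven : ∀ s : H, orderOf s = 7 → Nat.card (cent s) = 840 ∧ Nat.card (norm s) = 2520 ∧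
    ∃ I : Subgroup H, I ≤ cent s ∧ Subgroup.zpowers s ⊓ I = ⊥ ∧ Subgroup.zpowers s ⊔ I = cent s ∧
      Nonempty (↥I ≃* Equiv.Perm (Fin 5))
  big : ∀ pe ∈ [(23, 22), (29, 28), (31, 10), (37, 12), (43, 14)], ∀ y : H, orderOf y = pe.1 →
    Nat.card (cent y) = pe.1 ∧ Nat.card (norm y) = pe.1 * pe.2
  eleven : ∃ a b : H, orderOf a = 11 ∧ orderOf b = 11 ∧ ¬ IsConj a b ∧
    (∀ w : H, orderOf w = 11 → IsConj w a ∨ IsConj w b) ∧
    Nat.card (cent a) = 31944 ∧ Nat.card (cent b) ∣ 2 * 11 ^ 3 ∧ 2 ∣ Nat.card (cent b) ∧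
    (∃ O : Subgroup H, O ≤ cent a ∧ Nat.card O = 1331 ∧ ∀ g ∈ cent a, ∀ o ∈ O, g * o * g⁻¹ ∈ O)

variable {G : Type*} [Group G] [Finite G] [IsSimpleGroup G]

theorem num_of_type (hG : ¬ IsMulCommutative G) (hJ : IsOfJankoFourType G) : Num G := by
  classical
  obtain ⟨z, π, t, E, L⟩ := exists_loc hG hJ
  obtain ⟨x, O, B⟩ := L.exists_base
  obtain ⟨z', hJ'⟩ := id hJ
  have hcz : Nat.card (Subgroup.centralizer ({z'} : Set G)) = 21799895040 := by
    obtain ⟨P', hP'⟩ := id hJ'
    obtain ⟨π', -, J', g', vec', S'⟩ := CfsgLib.JFour.exists_full hG hP'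
    obtain ⟨V', hV'⟩ := S'.exists_isV
    have D' : J'.Std g' vec' V' := ⟨S', hV', CfsgLib.JFour.unique11_of_type (G := G) ⟨z', P', hP'⟩⟩
    exact (CfsgLib.JFourOrder.card_cent_z D').trans (by norm_num)
  have hna := nonabelian hG hJ B
  have hcard := L.card
  have hnorm : ∀ c s : G, Nat.card (norm (c * s * c⁻¹)) = Nat.card (norm s) := fun c s => by
    have h : norm (c * s * c⁻¹) = (norm s).map (MulAut.conj c).toMonoidHom := by
      show Subgroup.normalizer _ = (Subgroup.normalizer _).map _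
      rw [Subgroup.map_normalizer_eq_of_bijective _ (MulAut.conj c).bijective, MonoidHom.map_zpowers]
      rfl
    rw [h, Subgroup.card_map_of_injective (MulAut.conj c).injective]
  refine ⟨hcard, CfsgLib.JFour.one_class_three hG hJ, fun g hg => ?_, fun g hg => ?_, fun s hs => ?_, fun s hs => ?_, L.five,
    fun s hs => ?_, fun s hs => ?_, large_all hG hJ, ?_⟩
  · haveI := Fact.mk Nat.prime_three
    obtain ⟨P, hP⟩ := (IsPGroup.of_card (p := 3) (G := ↥(Subgroup.zpowers g)) (n := 2)
      (by rw [Nat.card_zpowers, hg]; norm_num)).exists_le_sylow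
    obtain ⟨R, hRle⟩ : ∃ R : Sylow 3 G, (R : Subgroup G) ≤ Subgroup.centralizer ({z'} : Set G) := by
      set H := Subgroup.centralizer ({z'} : Set G)
      have hf : ∀ m : ℕ, ¬ 3 ∣ m → (3 ^ 3 * m).factorization 3 = 3 := fun m hm => by
        have hm0 : m ≠ 0 := fun h => hm (h ▸ dvd_zero 3)
        rw [Nat.factorization_mul (by norm_num) hm0, Finsupp.add_apply, Nat.factorization_pow]
        simp [Nat.Prime.factorization_self Nat.prime_three, Nat.factorization_eq_zero_of_not_dvd hm]
      let S : Sylow 3 ↥H := default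
      have hS : Nat.card ↥((S : Subgroup ↥H).map H.subtype) = 3 ^ (Nat.card G).factorization 3 := by
        rw [Subgroup.card_map_of_injective H.subtype_injective, S.card_eq_multiplicity, hcz, hcard,
          show (21799895040 : ℕ) = 3 ^ 3 * 807403520 by norm_num, hf _ (by norm_num),
          show (86775571046077562880 : ℕ) = 3 ^ 3 * 3213910038743613440 by norm_num, hf _ (by norm_num)]
      exact ⟨Sylow.ofCard _ hS, Subgroup.map_subtype_le _⟩
    obtain ⟨c, hc⟩ := MulAction.exists_smul_eq G P R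
    have hexp := (CfsgLib.JFour.sylow_three_structure hG hJ' R hRle).2.2.1
    have hmem : c * g * c⁻¹ ∈ (R : Subgroup G) := by
      rw [← hc, Sylow.coe_subgroup_smul]
      exact ⟨g, hP (Subgroup.mem_zpowers g), rfl⟩
    have h3 := Monoid.pow_exponent_eq_one (⟨_, hmem⟩ : ↥(R : Subgroup G))
    rw [hexp] at h3
    have h4 : (c * g * c⁻¹) ^ 3 = 1 := by simpa using congrArg Subtype.val h3
    rw [conj_pow, conj_eq_one_iff] at h4
    have := Nat.le_of_dvd (by norm_num) (orderOf_dvd_of_pow_eq_one h4)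
    omega
  · obtain ⟨c, hc⟩ := B.exists_sylow_conj (v := g) (k := 2) (by rw [hg]; norm_num)
    have hexp := (B.extraspecial hna).2
    have h := Monoid.pow_exponent_eq_one (⟨_, hc⟩ : ↥O)
    rw [hexp] at h
    have h4 : (c * g * c⁻¹) ^ 11 = 1 := by simpa using congrArg Subtype.val h
    rw [conj_pow, conj_eq_one_iff] at h4
    have := Nat.le_of_dvd (by norm_num) (orderOf_dvd_of_pow_eq_one h4)
    omega
  · rw [card_cent_of_isConj (L.three s hs)]
    exact L.card_cpi
  · obtain ⟨c, rfl⟩ := isConj_iff.1 (L.three s hs)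
    refine ⟨c * z * c⁻¹, ((MulAut.conj c).orderOf_eq z).trans L.oz, fun d hd => ?_⟩
    rw [cent_conj] at hd
    obtain ⟨d', hd', rfl⟩ := hd
    exact (show Commute d' z from mem_cent.1 (L.cpi hd')).map (MulAut.conj c).toMonoidHom
  · obtain ⟨c, hc⟩ : ∃ c : G, c * s * c⁻¹ ∈ cent z' := exists_conj_mem (p := 5) (by norm_num)
      (by rw [hcard]; norm_num) (by rw [show cent z' = Subgroup.centralizer ({z'} : Set G) from rfl, hcz]; norm_num) hs
    obtain ⟨f, A, F⟩ := CfsgLib.JFourLocal.exists_fiveLoc_at hG hJ' (((MulAut.conj c).orderOf_eq s).trans hs)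
      (mem_cent.1 hc)
    rw [← hnorm c s]
    exact F.card_normalizer.trans (by norm_num)
  · obtain ⟨c, hc⟩ : ∃ c : G, c * s * c⁻¹ ∈ cent z' := exists_conj_mem (p := 7) (by norm_num)
      (by rw [hcard]; norm_num) (by rw [show cent z' = Subgroup.centralizer ({z'} : Set G) from rfl, hcz]; norm_num) hs
    have hcs : orderOf (c * s * c⁻¹) = 7 := ((MulAut.conj c).orderOf_eq s).trans hs
    obtain ⟨π', s', u, y, T, hmem, hno, hsq⟩ := CfsgLib.JFourLocal.exists_seven hG hJ' hcs (mem_cent.1 hc)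
    obtain ⟨-, ⟨I, hI, hbot, hsup, ⟨eI⟩⟩, hC, hN⟩ := T.structure_seven hno hsq
    have hz : Subgroup.zpowers (c * s * c⁻¹) = Subgroup.zpowers s' := Subgroup.eq_of_le_of_card_ge
      (Subgroup.zpowers_le.2 hmem) (by rw [Nat.card_zpowers, Nat.card_zpowers, hcs, T.s7])
    have hcc : cent (c * s * c⁻¹) = cent s' := by
      show Subgroup.centralizer _ = Subgroup.centralizer _
      rw [← Subgroup.centralizer_closure, ← Subgroup.zpowers_eq_closure, hz, Subgroup.zpowers_eq_closure,
        Subgroup.centralizer_closure]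
    let f := (MulAut.conj c).symm.toMonoidHom
    have hf : Function.Injective f := (MulAut.conj c).symm.injective
    have hfs : f (c * s * c⁻¹) = s := (MulAut.conj c).symm_apply_apply s
    have hfc : (cent (c * s * c⁻¹)).map f = cent s := by
      rw [cent_conj c s, Subgroup.map_map,
        show f.comp (MulAut.conj c).toMonoidHom = MonoidHom.id G from
          MonoidHom.ext fun g => (MulAut.conj c).symm_apply_apply g, Subgroup.map_id]
    have hfz : (Subgroup.zpowers s').map f = Subgroup.zpowers s := by rw [← hz, MonoidHom.map_zpowers, hfs]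
    refine ⟨L.seven s hs, by rw [← hnorm c s]; show Nat.card (Subgroup.normalizer _) = _; rw [hz, hN],
      I.map f, by rw [← hfc, hcc]; exact Subgroup.map_mono hI, ?_, ?_,
      ⟨(I.equivMapOfInjective f hf).symm.trans eI⟩⟩
    · rw [← hfz, ← Subgroup.map_inf _ _ f hf, hbot, Subgroup.map_bot]
    · rw [← hfz, ← Subgroup.map_sup, hsup, ← hfc, hcc]
  · haveI := Fact.mk (show Nat.Prime 11 by norm_num)
    haveI := Fact.mk Nat.prime_two
    obtain ⟨w, hw, hxw, hall⟩ := B.two_classes hna
    obtain ⟨v, hv⟩ := exists_prime_orderOf_dvd_card' (G := ↥(cent t)) 11 (by rw [L.ct]; norm_num)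
    rw [← Subgroup.orderOf_coe] at hv
    have hvt : (v : G) * t = t * v := mem_cent.1 v.2
    -- the involutions in the centralizer of `x` are conjugate to `z`
    have hi : ∀ i ∈ cent x, orderOf i = 2 → IsConj i z := fun i hi hio => by
      have h8 : Nat.card ↥((E ⊓ cent x).subgroupOf (cent x)) = 8 := by
        rw [Nat.card_congr (Subgroup.subgroupOfEquivOfLe inf_le_right).toEquiv, L.card_Q B.xpi B.ox]
      have hfac : (Nat.card ↥(cent x)).factorization 2 = 3 := by
        rw [B.core.card_cent, show (31944 : ℕ) = 2 ^ 3 * 3993 by norm_num,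
          Nat.factorization_mul (by norm_num) (by norm_num), Finsupp.add_apply, Nat.factorization_pow]
        simp [Nat.Prime.factorization_self Nat.prime_two,
          Nat.factorization_eq_zero_of_not_dvd (show ¬ 2 ∣ 3993 by norm_num)]
      let S : Sylow 2 ↥(cent x) := Sylow.ofCard ((E ⊓ cent x).subgroupOf (cent x)) (by rw [h8, hfac]; norm_num)
      obtain ⟨P, hP⟩ := (IsPGroup.of_card (G := ↥(Subgroup.zpowers (⟨i, hi⟩ : ↥(cent x)))) (n := 1)
        (by rw [Nat.card_zpowers, Subgroup.orderOf_mk, hio, pow_one])).exists_le_sylow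
      obtain ⟨d, hd⟩ := MulAction.exists_smul_eq ↥(cent x) P S
      have h1 : (S : Subgroup ↥(cent x)) = (P : Subgroup ↥(cent x)).map (MulAut.conj d).toMonoidHom := by
        rw [← hd, Sylow.coe_subgroup_smul]; rfl
      have h2 : (d : G) * i * (d : G)⁻¹ ∈ E ⊓ cent x :=
        Subgroup.mem_subgroupOf.1 (h1.ge ⟨⟨i, hi⟩, hP (Subgroup.mem_zpowers _), rfl⟩)
      have h2o : orderOf ((d : G) * i * (d : G)⁻¹) = 2 := ((MulAut.conj (d : G)).orderOf_eq i).trans hio
      rcases L.invol_Q B.xpi B.ox h2 (by rw [← pow_two, ← h2o, pow_orderOf_eq_one]) with e | e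
      · rw [e, orderOf_one] at h2o; omega
      · exact isConj_iff.2 ⟨d, e⟩
    have hnx : ∀ c : G, c * v * c⁻¹ ∉ Subgroup.zpowers x := fun c hc => by
      have hne : c * (v : G) * c⁻¹ ≠ 1 := fun h => by
        rw [conj_eq_one_iff] at h
        rw [h, orderOf_one] at hv
        omega
      have hct : c * t * c⁻¹ ∈ cent x := by
        rw [← B.cent_eq_of_mem hc hne, mem_cent]
        calc c * t * c⁻¹ * (c * v * c⁻¹) = c * (t * v) * c⁻¹ := by group
          _ = _ := by rw [← hvt]; group
      exact L.hzt ((hi _ hct (((MulAut.conj c).orderOf_eq t).trans L.ot)).symm.trans (isConj_iff.2 ⟨c, rfl⟩).symm)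
    have hxv : ¬ IsConj x (v : G) := fun h => by
      obtain ⟨c, hc⟩ := isConj_iff.1 h.symm
      exact hnx c (by rw [hc]; exact Subgroup.mem_zpowers x)
    have hwv : IsConj (v : G) w := (hall v hv).resolve_left fun h => hxv h.symm
    obtain ⟨hd, -⟩ := B.card_cent_dvd hv hnx
    refine ⟨x, v, B.ox, hv, hxv, fun u hu => (hall u hu).imp_right fun h => h.trans hwv.symm, B.core.card_cent,
      hd, ?_, O, B.core.le, B.core.card, B.core.normal⟩
    have := orderOf_dvd_natCard (G := ↥(cent (v : G))) ⟨t, mem_cent.2 hvt.symm⟩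
    rwa [Subgroup.orderOf_mk, L.ot] at this

end CfsgLib.JFourClasses
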