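import Cfsg.Agent.Lib.JFourClasses.Table

/-!
# Uses of a table: bounds, labels and commuting generators
-/

set_option autoImplicit false
set_option maxRecDepth 100000

namespace CfsgLib.JFourClasses

open Cfsg CfsgLib.CosetEnum CfsgLib.J4Pres Cfsg.Spor

/-- The packed matrix of a row is below the bound. -/
noncomputable def bndOK (gp : List ℕ) (T : List (List ℕ × List ℕ)) (j : ℕ) : Bool :=
  Nat.beq (Nat.shiftRight (genP gp (T.getD j ([], [])).1) 12544) 0

theorem bnd_spec {gp : List ℕ} {T : List (List ℕ × List ℕ)} {j : ℕ} (h : bndOK gp T j = true) :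
    genP gp (T.getD j ([], [])).1 < 2 ^ 12544 := by
  have h' : (genP gp (T.getD j ([], [])).1) >>> 12544 = 0 := Nat.eq_of_beq_eq_true h
  rw [Nat.shiftRight_eq_div_pow, Nat.div_eq_zero_iff] at h'
  exact h'.resolve_left (Nat.two_pow_pos _).ne'

/-- All generators commute with a packed matrix. -/
noncomputable def commOK (gp : List ℕ) (P : ℕ) : Bool :=
  gp.all fun g => Nat.beq (mulP g P) (mulP P g)

theorem comm_gen {gw : List (List ℕ)} {gp : List ℕ} (h : gensOK gw gp = true) {P : ℕ} (hc : commOK gp P = true)
    {x : J4} (hx : Has x P) (k : ℕ) : Commute (elt (gw.getD k [])) x := by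
  by_cases hk : k < gp.length
  · have h1 := List.all_eq_true.1 hc (gp.getD k oneP) (by
      rw [List.getD_eq_getElem _ _ hk]; exact List.getElem_mem _)
    exact Has.eq ((has_gen h k).mul hx) (hx.mul (has_gen h k)) h1
  · simp only [gensOK, Bool.and_eq_true] at h
    rw [List.getD_eq_default _ _ (by have := Nat.eq_of_beq_eq_true h.1; omega), elt_nil]
    exact Commute.one_left x

theorem comm_genE {gw : List (List ℕ)} {gp : List ℕ} (h : gensOK gw gp = true) {P : ℕ} (hc : commOK gp P = true)
    {x : J4} (hx : Has x P) (w : List ℕ) : Commute (genE gw w) x := by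
  induction w with
  | nil => exact Commute.one_left x
  | cons k w ih =>
    rw [genE, prodW_cons]
    exact (comm_gen h hc hx k).mul_left ih

/-- An element of a list of packed matrices twisting two matrices. -/
noncomputable def witOK (gp : List ℕ) (w : List ℕ) (A B : ℕ) : Bool :=
  strict (genP gp w) fun C => Nat.beq (mulP C A) (mulP B C)

theorem wit_spec {gw : List (List ℕ)} {gp : List ℕ} (h : gensOK gw gp = true) {w : List ℕ} {a b : J4} {A B : ℕ}
    (ha : Has a A) (hb : Has b B) (hw : witOK gp w A B = true) : genE gw w * a * (genE gw w)⁻¹ = b := by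
  rw [witOK, strict_eq] at hw
  rw [Has.eq ((has_genE h w).mul ha) (hb.mul (has_genE h w)) hw, mul_inv_cancel_right]

end CfsgLib.JFourClasses
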