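import Cfsg.Agent.Lib.JFourClasses.ElevenData
import Cfsg.Agent.Lib.JFourClasses.TableUse
import Cfsg.Agent.Lib.JFourClasses.Complement
import Cfsg.Agent.Lib.JFourClasses.Facts

/-!
# The nine classes of elements with largest prime eleven
-/

set_option autoImplicit false
set_option maxRecDepth 100000
set_option linter.style.haveILetI false

namespace CfsgLib.JFourClasses

open Cfsg CfsgLib.CosetEnum CfsgLib.J4Pres Cfsg.Spor CfsgLib.JFourPrime

theorem hg_ok : gensOK hgW hgP = true := by decide +kernel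

theorem hrows_ok : ((List.range 24).all fun j => rowOK hgP tabH j) = true ∧
    ((List.range 23).all fun j => incrOK hgP tabH j) = true ∧
    ((List.range 24).all fun j => bndOK hgP tabH j) = true := by decide +kernel

theorem hlen_ok : tabH.length = 24 ∧ oneHIdx < 24 ∧ (tabH.getD oneHIdx ([], [])).1 = [] := by decide +kernel

theorem x11_ok : Nat.beq (wP x11W) x11P = true ∧ commOK hgP x11P = true ∧ Nat.beq (powP x11P 11) oneP = true ∧
    (List.range 12544).any (fun i => diffP x11P oneP i) = true := by decide +kernel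

theorem witH_ok : ((List.range 24).all fun i => Nat.blt (labH.getD i 7) 7 && Nat.blt (witH.getD i 24) 24 &&
    Nat.beq (mulI tabH (witH.getD i 24) i)
      (mulI tabH (repsH.getD (labH.getD i 7) 0) (witH.getD i 24))) = true := by decide +kernel

theorem apartH_ok : ((List.range 7).all fun a => Nat.blt (repsH.getD a 0) 24 &&
    (List.range 7).all fun b => Nat.beq a b || (List.range 24).all fun t =>
      !(Nat.beq (mulI tabH t (repsH.getD a 0)) (mulI tabH (repsH.getD b 0) t))) = true := by decide +kernel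

/-- An element of order eleven. -/
noncomputable def x11 : J4 := elt x11W

theorem has_x11 : Has x11 x11P := by
  rw [← Nat.eq_of_beq_eq_true x11_ok.1]; exact has_elt _

theorem order_x11 : orderOf x11 = 11 := by
  haveI := Fact.mk (show Nat.Prime 11 by norm_num)
  obtain ⟨i, -, hi⟩ := List.any_eq_true.1 x11_ok.2.2.2
  have hp : ∀ k, Has (x11 ^ k) (powP x11P k) := fun k => by
    induction k with
    | zero => rw [pow_zero]; exact has_one
    | succ k ih => rw [pow_succ]; exact ih.mul has_x11
  exact orderOf_eq_prime ((hp 11).eq has_one x11_ok.2.2.1) (has_x11.ne has_one hi)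

theorem tabH_tab : Tab hgW hgP tabH oneHIdx where
  gens := hg_ok
  rows j hj := List.all_eq_true.1 hrows_ok.1 j (List.mem_range.2 (hlen_ok.1 ▸ hj))
  incr j hj := List.all_eq_true.1 hrows_ok.2.1 j (List.mem_range.2 (by rw [hlen_ok.1] at hj; omega))
  one_ok := ⟨hlen_ok.1.symm ▸ hlen_ok.2.1, hlen_ok.2.2⟩

theorem bndH (k : ℕ) (hk : k < tabH.length) : genP hgP (tabH.getD k ([], [])).1 < 2 ^ 12544 :=
  bnd_spec (List.all_eq_true.1 hrows_ok.2.2 k (List.mem_range.2 (hlen_ok.1 ▸ hk)))

/-- The group of order twenty-four commuting with the element of order eleven. -/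
noncomputable def H24 : Subgroup J4 := Subgroup.closure {a | ∃ g < hgW.length, elt (hgW.getD g []) = a}

theorem card_H24 : Nat.card H24 = 24 := (tabH_tab.card_closure bndH).trans hlen_ok.1

theorem H24_le : H24 ≤ cent x11 := by
  rw [H24, Subgroup.closure_le]
  rintro _ ⟨g, -, rfl⟩
  exact mem_cent.2 (comm_gen hg_ok x11_ok.2.1 has_x11 g).eq

theorem eh_mem {j : ℕ} (hj : j < 24) : tabH_tab.el j ∈ H24 :=
  tabH_tab.el_mem.resolve_right (not_not.2 (hlen_ok.1.symm ▸ hj))

theorem repsH_lt {a : ℕ} (ha : a < 7) : repsH.getD a 0 < 24 := by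
  have h := List.all_eq_true.1 apartH_ok a (List.mem_range.2 ha)
  simp only [Bool.and_eq_true, Nat.blt_eq] at h
  exact h.1

/-- The seven classes of the group of order twenty-four. -/
noncomputable def repsH24 : SubReps H24 7 where
  rep a := tabH_tab.el (repsH.getD a.val 0)
  mem a := eh_mem (repsH_lt a.2)
  apart a b k hk h := by
    obtain ⟨t, ht, rfl⟩ := tabH_tab.closure_spec k hk
    rw [hlen_ok.1] at ht
    have hl := hlen_ok.1.symm
    obtain ⟨h1, e1⟩ := tabH_tab.el_mulI (i := t) (hl ▸ ht) (hl ▸ repsH_lt a.2)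
    obtain ⟨h2, e2⟩ := tabH_tab.el_mulI (i := repsH.getD b.val 0) (hl ▸ repsH_lt b.2) (hl ▸ ht)
    have he := tabH_tab.el_inj h1 h2 (by rw [e1, e2, ← h, inv_mul_cancel_right]) bndH
    have hc := List.all_eq_true.1 apartH_ok a.val (List.mem_range.2 a.2)
    simp only [Bool.and_eq_true, List.all_eq_true, List.mem_range, Bool.or_eq_true] at hc
    rcases hc.2 b.val b.2 with hab | hne
    · exact Fin.ext (Nat.eq_of_beq_eq_true hab)
    · have := hne t ht
      simp only [Bool.not_eq_true'] at this
      exact absurd (Nat.beq_eq.mpr he) (Bool.eq_false_iff.1 this)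
  cover h hh := by
    have hlt : ∀ {i : ℕ}, i < 24 → i < tabH.length := fun h => hlen_ok.1.symm ▸ h
    obtain ⟨j, hj, rfl⟩ := tabH_tab.closure_spec h hh
    rw [hlen_ok.1] at hj
    have hc := List.all_eq_true.1 witH_ok j (List.mem_range.2 hj)
    simp only [Bool.and_eq_true, Nat.blt_eq] at hc
    obtain ⟨⟨hl7, hw⟩, he⟩ := hc
    obtain ⟨-, e1⟩ := tabH_tab.el_mulI (i := witH.getD j 24) (hlt hw) (hlt hj)
    obtain ⟨-, e2⟩ := tabH_tab.el_mulI (i := repsH.getD (labH.getD j 7) 0) (hlt (repsH_lt hl7)) (hlt hw)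
    rw [Nat.eq_of_beq_eq_true he, e2] at e1
    exact ⟨⟨_, hl7⟩, _, eh_mem hw, by rw [← e1, mul_inv_cancel_right]⟩

theorem small_of_dvd {G : Type*} [Group G] {v : G} {n p : ℕ} (hn : ∀ q : ℕ, q.Prime → q ∣ n → q ≤ p)
    (h : orderOf v ∣ n) : Small p v :=
  fun q hq hqv => hn q hq (hqv.trans h)

theorem elevenB {b : J4} (hb : orderOf b = 11) (hcb : Nat.card (cent b) ∣ 2 * 11 ^ 3)
    (hcb2 : 2 ∣ Nat.card (cent b)) : Nonempty (CentReps b (Small 11) 2) := by
  haveI := finite_J4
  haveI := Fact.mk (show Nat.Prime 11 by norm_num)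
  haveI := Fact.mk Nat.prime_two
  classical
  obtain ⟨m, hm⟩ := hcb2
  obtain ⟨k, -, rfl⟩ := (Nat.dvd_prime_pow (show Nat.Prime 11 by norm_num)).1
    ((Nat.mul_dvd_mul_iff_left two_pos).1 (hm ▸ hcb))
  obtain ⟨S⟩ : Nonempty (Sylow 11 ↥(cent b)) := inferInstance
  have hS : Nat.card (S : Subgroup ↥(cent b)) = 11 ^ k := by
    rw [S.card_eq_multiplicity, hm, Nat.factorization_mul (by norm_num) (by positivity), Finsupp.add_apply,
      Nat.factorization_pow]
    simp [Nat.Prime.factorization_self (show Nat.Prime 11 by norm_num),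
      Nat.factorization_eq_zero_of_not_dvd (show ¬ 11 ∣ 2 by norm_num)]
  have hidx : (S : Subgroup ↥(cent b)).index = 2 := by
    have h := Subgroup.card_mul_index (S : Subgroup ↥(cent b))
    rw [hS, hm, mul_comm 2] at h
    exact mul_left_cancel₀ (by positivity) h
  have hnS := Subgroup.normal_of_index_eq_two hidx
  obtain ⟨t, ht⟩ := exists_prime_orderOf_dvd_card' (G := ↥(cent b)) 2 ⟨_, hm⟩
  have htG : orderOf (t : J4) = 2 := (Subgroup.orderOf_coe t).trans ht
  set O' := (S : Subgroup ↥(cent b)).map (cent b).subtype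
  have hO' : Nat.card O' = 11 ^ k := (Subgroup.card_map_of_injective (cent b).subtype_injective).trans hS
  have htt : (t : J4) * t = 1 := by rw [← pow_two, ← htG, pow_orderOf_eq_one]
  have hmem : ∀ h ∈ Subgroup.zpowers (t : J4), h = 1 ∨ h = t := by
    intro h hh
    rw [mem_zpowers_iff_mem_range_orderOf, htG] at hh
    simp only [Finset.mem_image, Finset.mem_range] at hh
    obtain ⟨i, hi, rfl⟩ := hh
    interval_cases i <;> simp
  refine ⟨centRepsCompl (O := O') (H := Subgroup.zpowers (t : J4)) hb (Subgroup.map_subtype_le _)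
    (Subgroup.zpowers_le.2 t.2) (IsPGroup.of_card (n := k) hO') ?_
    (by rw [Nat.card_zpowers, htG, hO', hm]) (by rw [Nat.card_zpowers, htG]; norm_num)
    (fun h hh => small_of_dvd (n := 2) (fun q hq hd => by
        have := Nat.le_of_dvd (by norm_num) hd
        omega)
      (htG ▸ orderOf_dvd_of_mem_zpowers hh))
    { rep := ![1, (t : J4)]
      mem := fun i => by fin_cases i <;> simp
      apart := fun i j h hh e => by
        have he : h * ![1, (t : J4)] i * h⁻¹ = ![1, (t : J4)] i := by
          rcases hmem h hh with rfl | rfl <;> fin_cases i <;> simp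
        rw [he] at e
        have ht1 : (t : J4) ≠ 1 := fun h1 => by rw [h1, orderOf_one] at htG; omega
        fin_cases i <;> fin_cases j <;> simp [ht1, ht1.symm] at e <;> rfl
      cover := fun h hh => by
        rcases hmem h hh with rfl | rfl
        · exact ⟨0, 1, one_mem _, by simp⟩
        · exact ⟨1, 1, one_mem _, by simp⟩ }⟩
  rintro g hg _ ⟨o, ho, rfl⟩
  exact ⟨⟨g, hg⟩ * o * ⟨g, hg⟩⁻¹, hnS.conj_mem o ho ⟨g, hg⟩, rfl⟩

set_option maxHeartbeats 1600000 in
/-- The elements with largest prime eleven fall into nine classes. -/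
theorem ncls_eleven (F : Num J4) : ncls (topSet J4 11) = 9 := by
  haveI := finite_J4
  haveI := Fact.mk (show Nat.Prime 11 by norm_num)
  haveI := Fact.mk Nat.prime_two
  obtain ⟨a, b, ha, hb, hab, hall, hca, hcb, hcb2, O, hOle, hOc, hOn⟩ := F.eleven
  have hax : IsConj x11 a := (hall x11 order_x11).resolve_right fun h => by
    have h24 : 24 ∣ Nat.card (cent x11) := card_H24 ▸ Subgroup.card_dvd_of_le H24_le
    rw [← card_cent_of_isConj h] at h24
    have h3 := (dvd_trans (by norm_num : 3 ∣ 24) h24).trans hcb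
    norm_num at h3
  obtain ⟨c, hc⟩ := isConj_iff.1 hax.symm
  let f := (MulAut.conj c).toMonoidHom
  have hx : (cent a).map f = cent x11 := by rw [← hc, cent_conj]
  have hcx : Nat.card (cent x11) = 31944 := by
    rw [← hx, Subgroup.card_map_of_injective (MulAut.conj c).injective, hca]
  have hO1 : O.map f ≤ cent x11 := hx ▸ Subgroup.map_mono hOle
  have hO2 : Nat.card (O.map f) = 1331 := (Subgroup.card_map_of_injective (MulAut.conj c).injective).trans hOc
  let R0 : CentReps x11 (Small 11) 7 := centRepsCompl order_x11 hO1 H24_le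
    (IsPGroup.of_card (n := 3) hO2) (by
      rw [← hx]
      rintro _ ⟨g, hg, rfl⟩ _ ⟨o, ho, rfl⟩
      exact ⟨g * o * g⁻¹, hOn g hg o ho, by simp⟩)
    (by rw [card_H24, hO2, hcx]) (by rw [card_H24]; norm_num)
    (fun h hh => small_of_dvd (n := 24) (fun q hq hd => by
        have := Nat.le_of_dvd (by norm_num) hd
        interval_cases q <;> norm_num at *)
      (by rw [← card_H24, ← Subgroup.orderOf_mk _ hh]; exact orderOf_dvd_natCard _))
    repsH24
  obtain ⟨R1⟩ : Nonempty (CentReps b (Small 11) 2) := elevenB hb hcb hcb2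
  have hbx : ¬ IsConj x11 b := fun h => hab (hax.symm.trans h)
  rw [ncls_top (by norm_num) (fun g h => F.no_121 _ (orderOf_pow_orderOf_div (orderOf_pos g).ne' h))
    ![x11, b] (fun i => by fin_cases i <;> simp [order_x11, hb]) (fun i j h => by
      fin_cases i <;> fin_cases j
      exacts [rfl, absurd h hbx, absurd h.symm hbx, rfl])
    (fun u hu => (hall u hu).elim (fun h => ⟨0, h.trans hax.symm⟩) (fun h => ⟨1, h⟩)) ![7, 2]
    (Fin.cons R0 (Fin.cons R1 finZeroElim))]
  simp

end CfsgLib.JFourClasses
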