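import Cfsg.Agent.Lib.JFourClasses.FiveTable

/-!
# The nine classes of elements with largest prime five
-/

set_option autoImplicit false
set_option maxRecDepth 100000
set_option linter.style.haveILetI false

namespace CfsgLib.JFourClasses

open Cfsg CfsgLib.CosetEnum CfsgLib.J4Rep CfsgLib.J4Pres Cfsg.Spor CfsgLib.JFourPrime

theorem inv5_spec {g i : ℕ} (hg : g < 2) (hi : i < 1344) :
    ∃ k < 1344, phi5 (g5 g * e5 i * (g5 g)⁻¹) = phi5 (e5 k) ∧ lab5I k = lab5I i := by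
  have h := List.all_eq_true.1 gidx5_ok g (List.mem_range.2 hg)
  simp only [Bool.and_eq_true, Nat.blt_eq] at h
  obtain ⟨⟨⟨hig, hiv⟩, hpr⟩, hone⟩ := h
  set ig := gidx5.getD g 0
  set iv := ginv5.getD g 0
  have eg : phi5 (e5 ig) = phi5 (g5 g) := by rw [phi5_e5 hig, phi5_g5 hg, Nat.eq_of_beq_eq_true hpr]
  obtain ⟨-, ev⟩ := run5_spec (word5 iv) (fun _ => word5_lt hiv) hig
  rw [Nat.eq_of_beq_eq_true hone, e5_one, eg] at ev
  have einv : phi5 (g5 g)⁻¹ = phi5 (e5 iv) := by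
    calc phi5 (g5 g)⁻¹ = phi5 (g5 g)⁻¹ * (phi5 (g5 g) * phi5 (pr5 (word5 iv))) := by rw [← ev, mul_one]
      _ = _ := by rw [← mul_assoc, ← map_mul, inv_mul_cancel, map_one, one_mul]; rfl
  obtain ⟨hu, eu⟩ := run5_spec (word5 i) (fun _ => word5_lt hi) hig
  obtain ⟨hk, ek⟩ := run5_spec (word5 iv) (fun _ => word5_lt hiv) hu
  refine ⟨_, hk, by rw [ek, eu, eg, map_mul, map_mul, einv]; rfl, ?_⟩
  have hinv : inv5OK g i = true := by
    interval_cases g
    exacts [List.all_eq_true.1 inv5a_ok i (List.mem_range.2 hi), List.all_eq_true.1 inv5b_ok i (List.mem_range.2 hi)]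
  simp only [inv5OK, strict_eq] at hinv
  exact Nat.eq_of_beq_eq_true hinv

theorem lab5_inv (a : ↥K5) : ∀ {i j : ℕ}, i < 1344 → j < 1344 → phi5 (a * e5 i * a⁻¹) = phi5 (e5 j) →
    lab5I i = lab5I j := by
  haveI := finite_J4
  obtain ⟨a, ha⟩ := a
  have ha' := ha
  rw [K5, ← Subgroup.mem_toSubmonoid, Subgroup.closure_toSubmonoid_of_finite] at ha'
  induction ha' using Submonoid.closure_induction_left with
  | one =>
    intro i j hi hj h
    rw [e5_inj hi hj (by rw [← h]; simp [show (⟨1, ha⟩ : ↥K5) = 1 from rfl])]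
  | mul_left c hc b hb ih =>
    intro i j hi hj h
    obtain ⟨k, rfl⟩ := hc
    have hbK : b ∈ K5 := by
      rw [K5, ← Subgroup.mem_toSubmonoid, Subgroup.closure_toSubmonoid_of_finite]; exact hb
    set B : ↥K5 := ⟨b, hbK⟩
    obtain ⟨m, hm, em⟩ := phi5_mem (B * e5 i * B⁻¹)
    rw [ih hbK hi hm em.symm]
    have hsplit : (⟨gE k * b, ha⟩ : ↥K5) = g5 k * B := rfl
    rw [hsplit, show g5 k * B * e5 i * (g5 k * B)⁻¹ = g5 k * (B * e5 i * B⁻¹) * (g5 k)⁻¹ by group,
      map_mul, map_mul, ← em, ← map_mul, ← map_mul] at h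
    by_cases hk : k < 2
    · obtain ⟨n, hn, en, hl⟩ := inv5_spec hk hm
      rw [en] at h
      rw [← e5_inj hn hj h, hl]
    · have hinv : phi5 (g5 k)⁻¹ = 1 := by
        have : phi5 (g5 k)⁻¹ * phi5 (g5 k) = 1 := by rw [← map_mul, inv_mul_cancel, map_one]
        rwa [phi5_x5 hk, mul_one] at this
      rw [map_mul, map_mul, phi5_x5 hk, hinv, one_mul, mul_one] at h
      rw [e5_inj hm hj h]

/-- The labels of the classes of elements of order prime to seven. -/
def sel5 : List ℕ := [0, 3, 4, 5, 6, 7, 8, 9, 10]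

theorem sel5_spec : ∀ a < 9, sel5.getD a 0 < 11 ∧ sel5.getD a 0 ≠ 1 ∧ sel5.getD a 0 ≠ 2 ∧
    ∀ b < 9, sel5.getD a 0 = sel5.getD b 0 → a = b := by decide

theorem sel5_cover : ∀ l < 11, l = 1 ∨ l = 2 ∨ ∃ a < 9, sel5.getD a 0 = l := by decide

theorem pow12_spec (a : ↥K5) {P : ℕ} (h : phi5 a = toMatP 12 P) : ∀ n, phi5 (a ^ n) = toMatP 12 (pow12 P n)
  | 0 => by rw [pow_zero, map_one]; exact toMatP_one12.symm
  | n + 1 => by
    rw [pow_succ, map_mul, pow12_spec a h n, h, ← toMatP_mul12]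
    rfl

theorem rep5_spec {l : ℕ} (hl : l < 11) : reps5.getD l 0 < 1344 ∧ lab5I (reps5.getD l 0) = l ∧
    (if l = 1 ∨ l = 2 then phi5 (e5 (reps5.getD l 0) ^ 7) = 1 ∧ phi5 (e5 (reps5.getD l 0)) ≠ 1
    else phi5 (e5 (reps5.getD l 0) ^ 24) = 1) := by
  have h := List.all_eq_true.1 rep5_ok l (List.mem_range.2 hl)
  simp only [strict_eq, Bool.and_eq_true, Nat.blt_eq] at h
  obtain ⟨⟨hr, hlab⟩, hc⟩ := h
  refine ⟨hr, Nat.eq_of_beq_eq_true hlab, ?_⟩
  have hb : ∀ m, (Nat.beq l m = true) = (l = m) := fun m => Nat.beq_eq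
  by_cases h12 : l = 1 ∨ l = 2
  · rw [if_pos h12]
    rw [show (Nat.beq l 1 || Nat.beq l 2) = true by simpa [hb] using h12, cond_true, Bool.and_eq_true] at hc
    refine ⟨by rw [pow12_spec _ (phi5_e5 hr), Nat.eq_of_beq_eq_true hc.1, toMatP_one12], fun he => ?_⟩
    rw [phi5_e5 hr, ← toMatP_one12] at he
    have := toMatP_inj_lt he (prod12_lt hr) (by decide +kernel)
    simp only [Bool.not_eq_true'] at hc
    exact Bool.eq_false_iff.1 hc.2 (Nat.beq_eq.mpr this)
  · rw [if_neg h12]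
    rw [show (Nat.beq l 1 || Nat.beq l 2) = false by rw [Bool.eq_false_iff]; simpa [hb] using h12, cond_false] at hc
    rw [pow12_spec _ (phi5_e5 hr), Nat.eq_of_beq_eq_true hc, toMatP_one12]

/-- A representative. -/
noncomputable def r5 (a : ℕ) : ↥K5 := e5 (reps5.getD (sel5.getD a 0) 0) ^ 25

variable (F : Num J4)

include F

theorem r5_spec {a : ℕ} (ha : a < 9) : r5 a ^ 24 = 1 ∧ phi5 (r5 a) = phi5 (e5 (reps5.getD (sel5.getD a 0) 0)) := by
  obtain ⟨hl, h1, h2, -⟩ := sel5_spec a ha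
  obtain ⟨-, -, h⟩ := rep5_spec hl
  rw [if_neg (by omega)] at h
  refine ⟨?_, by rw [r5, show 25 = 24 + 1 from rfl, pow_succ, map_mul, h, one_mul]⟩
  obtain ⟨i, hi⟩ := (five_kernel F).2 _ h
  simp only [Subgroup.coe_pow] at hi
  apply Subtype.ext
  rw [r5, Subgroup.coe_pow, Subgroup.coe_pow, Subgroup.coe_one, ← pow_mul, mul_comm, pow_mul, ← hi]
  rw [← zpow_natCast, ← zpow_mul, show i * ((25 : ℕ) : ℤ) = ((5 : ℕ) : ℤ) * (5 * i) by push_cast; ring, zpow_mul,
    zpow_natCast, ← x5_spec.1, pow_orderOf_eq_one, one_zpow]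

theorem eq_of_image {u v : ↥K5} {n : ℕ} (hu : u ^ n = 1) (hv : v ^ n = 1) (hn : n.Coprime 5)
    (h : phi5 u = phi5 v) : u = v := by
  set k := v⁻¹ * u
  have hk : phi5 k = 1 := by rw [map_mul, h, ← map_mul, inv_mul_cancel, map_one]
  obtain ⟨i, hi⟩ := (five_kernel F).2 k hk
  have hcomm : Commute (v : J4) k := by
    rw [← hi]
    exact (show Commute (v : J4) x5 from mem_cent.1 (K5_le v.2)).zpow_right i
  have hc : Commute v k := Subtype.ext hcomm.eq
  have h5 : k ^ 5 = 1 := by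
    apply Subtype.ext
    rw [Subgroup.coe_pow, ← hi, ← zpow_natCast, ← zpow_mul, mul_comm, zpow_mul, zpow_natCast, ← x5_spec.1,
      pow_orderOf_eq_one, one_zpow, Subgroup.coe_one]
  have hkn : k ^ n = 1 := by
    have h' : u ^ n = v ^ n * k ^ n := by rw [← hc.mul_pow, mul_inv_cancel_left]
    rwa [hu, hv, one_mul, eq_comm] at h'
  have hk1 : k = 1 := orderOf_eq_one_iff.1
    (Nat.eq_one_of_dvd_coprimes hn (orderOf_dvd_of_pow_eq_one hkn) (orderOf_dvd_of_pow_eq_one h5))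
  exact (inv_mul_eq_one.1 hk1).symm

/-- The classes in the centralizer of the element of order five. -/
noncomputable def fiveCent : CentReps x5 (Small 5) 9 where
  rep a := (r5 a.val : J4)
  comm a := (mem_cent.1 (K5_le (r5 a.val).2)).symm
  cop a := by
    have h : (r5 a.val : J4) ^ 24 = 1 := congrArg Subtype.val (r5_spec F a.2).1
    rw [x5_spec.1]
    exact Nat.Coprime.coprime_dvd_left (orderOf_dvd_of_pow_eq_one h) (by norm_num)
  good a := by
    intro q hq hqd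
    have h : (r5 a.val : J4) ^ 24 = 1 := congrArg Subtype.val (r5_spec F a.2).1
    have hd := hqd.trans (orderOf_dvd_of_pow_eq_one h)
    have := Nat.le_of_dvd (by norm_num) hd
    interval_cases q <;> norm_num at *
  apart a b c hc h := by
    have hcK : c ∈ K5 := (five_kernel F).1 ▸ mem_cent.2 hc.eq
    obtain ⟨hla, -⟩ := sel5_spec a.val a.2
    obtain ⟨hlb, -⟩ := sel5_spec b.val b.2
    obtain ⟨ha, ea, -⟩ := rep5_spec hla
    obtain ⟨hb, eb, -⟩ := rep5_spec hlb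
    have h' : (⟨c, hcK⟩ : ↥K5) * r5 a.val * (⟨c, hcK⟩)⁻¹ = r5 b.val := Subtype.ext h
    have hp := congrArg phi5 h'
    rw [map_mul, map_mul, (r5_spec F a.2).2, (r5_spec F b.2).2, ← map_mul, ← map_mul] at hp
    have hlab := lab5_inv _ ha hb hp
    rw [ea, eb] at hlab
    exact Fin.ext ((sel5_spec a.val a.2).2.2.2 b.val b.2 hlab)
  cover y hy hcop hQ := by
    haveI := finite_J4
    have hyK : y ∈ K5 := (five_kernel F).1 ▸ mem_cent.2 hy.eq.symm
    set Y : ↥K5 := ⟨y, hyK⟩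
    obtain ⟨j, hj, ej⟩ := phi5_mem Y
    have hw := List.all_eq_true.1 wit5_ok j (List.mem_range.2 hj)
    simp only [wit5OK, strict_eq, Bool.and_eq_true, Nat.blt_eq] at hw
    obtain ⟨hl, ht, he⟩ := hw
    obtain ⟨hr, -, hpow⟩ := rep5_spec hl
    set t := wit5I j
    set r := reps5.getD (lab5I j) 0
    obtain ⟨-, e1⟩ := run5_spec (word5 j) (fun _ => word5_lt hj) ht
    obtain ⟨-, e2⟩ := run5_spec (word5 t) (fun _ => word5_lt ht) hr
    rw [Nat.eq_of_beq_eq_true he, e2] at e1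
    have hconj : phi5 (e5 t * Y * (e5 t)⁻¹) = phi5 (e5 r) := by
      calc phi5 (e5 t * Y * (e5 t)⁻¹) = phi5 (e5 t) * phi5 (e5 j) * phi5 (e5 t)⁻¹ := by
            rw [map_mul, map_mul, ej]
        _ = phi5 (e5 r) * phi5 (e5 t) * phi5 (e5 t)⁻¹ := by
          rw [show phi5 (e5 t) * phi5 (e5 j) = phi5 (e5 r) * phi5 (e5 t) from e1.symm]
        _ = _ := by rw [mul_assoc, ← map_mul, mul_inv_cancel, map_one, mul_one]
    set U : ↥K5 := e5 t * Y * (e5 t)⁻¹ with hU
    have hoU : orderOf U = orderOf y :=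
      (((MulAut.conj (e5 t)).orderOf_eq Y).trans (Subgroup.orderOf_mk y hyK))
    have h7 : ¬ (lab5I j = 1 ∨ lab5I j = 2) := by
      intro h12
      rw [if_pos h12] at hpow
      refine hpow.2 ?_
      have hn : phi5 (e5 r) ^ orderOf y = 1 := by
        rw [← hconj, ← map_pow, ← hoU, pow_orderOf_eq_one, map_one]
      have h7' : phi5 (e5 r) ^ 7 = 1 := by rw [← map_pow]; exact hpow.1
      have hc7 : Nat.Coprime (orderOf y) 7 := ((show Nat.Prime 7 by norm_num).coprime_iff_not_dvd.2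
        fun hd => by have := hQ 7 (by norm_num) hd; omega).symm
      exact orderOf_eq_one_iff.1
        (Nat.eq_one_of_dvd_coprimes hc7 (orderOf_dvd_of_pow_eq_one hn) (orderOf_dvd_of_pow_eq_one h7'))
    obtain ⟨a, ha, hal⟩ : ∃ a < 9, sel5.getD a 0 = lab5I j := by
      rcases sel5_cover _ hl with h | h | h
      exacts [absurd (Or.inl h) h7, absurd (Or.inr h) h7, h]
    refine ⟨⟨a, ha⟩, (e5 t : J4), mem_cent.1 (K5_le (e5 t).2), ?_⟩
    have hn : (orderOf y * 24).Coprime 5 := Nat.Coprime.mul_left (by rwa [x5_spec.1] at hcop) (by norm_num)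
    have heq : U = r5 a := eq_of_image F
      (by rw [pow_mul, ← hoU, pow_orderOf_eq_one, one_pow])
      (by rw [mul_comm, pow_mul, (r5_spec F ha).1, one_pow]) hn
      (by rw [(r5_spec F ha).2, hal, hconj])
    exact congrArg Subtype.val heq

/-- The elements with largest prime five fall into nine classes. -/
theorem ncls_five (h25 : ∀ g : J4, ¬ 5 ^ 2 ∣ orderOf g) (hconj : ∀ u : J4, orderOf u = 5 → IsConj u x5) :
    ncls (topSet J4 5) = 9 := by
  haveI := finite_J4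
  rw [ncls_top (by norm_num) h25 (fun _ : Fin 1 => x5) (fun _ => x5_spec.1) (fun a b _ => Subsingleton.elim a b)
    (fun u hu => ⟨0, hconj u hu⟩) (fun _ => 9) fun _ => fiveCent F]
  simp

end CfsgLib.JFourClasses
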