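import Cfsg.Agent.Lib.JFourClasses.FiveDefs

/-!
# Kernel checks for the centralizer of an element of order five
-/

set_option autoImplicit false
set_option Elab.async false
set_option maxRecDepth 100000
set_option maxHeartbeats 4000000

namespace CfsgLib.JFourClasses

open CfsgLib.CosetEnum

theorem cg5_ok : gensOK cg5W cg5P = true ∧ cg5W.length = 2 ∧ commOK cg5P (wP x5W) = true := by decide +kernel

theorem x5_ok : (strict (wP x5W) fun P => Nat.beq (powP P 5) oneP && Nat.beq (mulP modB P) modB &&
    (List.range 12544).any fun i => diffP P oneP i) = true := by decide +kernel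

theorem mod_ok : Nat.beq (mulP modB modR) modE = true ∧ Nat.beq modE (projP 12) = true ∧
    Nat.beq (mulP modE modB) modB = true ∧ Nat.beq (mulP modR modE) modR = true := by decide +kernel

theorem img_ok : ((List.range 2).all fun g =>
    Nat.beq (mulP (mulP modB (cg5P.getD g oneP)) modR) (img5.getD g oneP) &&
      Nat.beq (mulP (img5.getD g oneP) modB) (mulP modB (cg5P.getD g oneP)) &&
      (List.range 144).all fun i =>
        Nat.testBit (img12.getD g one12) i == Nat.testBit (img5.getD g oneP) (112 * (i / 12) + i % 12)) = true := by
  decide +kernel

theorem one12_ok : ((List.range 12).all fun i => (List.range 12).all fun j =>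
    Nat.testBit one12 (12 * i + j) == Nat.beq i j) = true ∧ mask12 = maskR 12 12 := by decide +kernel

theorem rows5a_ok : ((List.range 336).all fun j => row5OK (0 + j)) = true := by decide +kernel

theorem rows5b_ok : ((List.range 336).all fun j => row5OK (336 + j)) = true := by decide +kernel

theorem rows5c_ok : ((List.range 336).all fun j => row5OK (672 + j)) = true := by decide +kernel

theorem rows5d_ok : ((List.range 336).all fun j => row5OK (1008 + j)) = true := by decide +kernel

theorem incr5_ok : ((List.range 1343).all incr5OK) = true := by decide +kernel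

theorem gidx5_ok : ((List.range 2).all fun g => Nat.blt (gidx5.getD g 0) 1344 && Nat.blt (ginv5.getD g 0) 1344 &&
    Nat.beq (prod12 (word5 (gidx5.getD g 0))) (img12.getD g one12) &&
    Nat.beq (run5 (gidx5.getD g 0) (word5 (ginv5.getD g 0))) one5Idx) = true := by decide +kernel

theorem one5_ok : one5Idx < 1344 ∧ word5 one5Idx = [] := by decide +kernel

theorem inv5a_ok : ((List.range 1344).all fun i => inv5OK 0 i) = true := by decide +kernel

theorem inv5b_ok : ((List.range 1344).all fun i => inv5OK 1 i) = true := by decide +kernel

theorem wit5_ok : ((List.range 1344).all wit5OK) = true := by decide +kernel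

theorem rep5_ok : ((List.range 11).all fun l => strict (reps5.getD l 0) fun r =>
    Nat.blt r 1344 && Nat.beq (lab5I r) l && strict (prod12 (word5 r)) fun P =>
      bif Nat.beq l 1 || Nat.beq l 2 then Nat.beq (pow12 P 7) one12 && !(Nat.beq P one12)
      else Nat.beq (pow12 P 24) one12) = true := by decide +kernel

end CfsgLib.JFourClasses
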