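import Cfsg.Agent.Lib.JFourClasses.TableUse
import Cfsg.Agent.Lib.JFourClasses.FiveData

/-!
# Matrices of degree twelve for the centralizer of an element of order five
-/

set_option autoImplicit false
set_option maxRecDepth 100000

namespace CfsgLib.JFourClasses

open CfsgLib.CosetEnum

/-- The mask of degree twelve. -/
def mask12 : ℕ := (2 ^ (12 * 12) - 1) / (2 ^ 12 - 1)

/-- The product of packed matrices of degree twelve. -/
noncomputable def mul12 (P Q : ℕ) : ℕ := mulWith 12 mask12 P Q

/-- The packed identity of degree twelve. -/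
def one12 : ℕ := (2 ^ 156 - 1) / (2 ^ 13 - 1)

/-- The product of the images along a word. -/
noncomputable def prod12 (w : List ℕ) : ℕ := w.foldr (fun k M => mul12 (img12.getD k one12) M) one12

/-- A power. -/
noncomputable def pow12 (P : ℕ) : ℕ → ℕ :=
  Nat.rec (motive := fun _ => ℕ) one12 fun _ R => mul12 R P

/-- The letters of a packed word. -/
noncomputable def unpackW : ℕ → ℕ → List ℕ :=
  Nat.rec (motive := fun _ => ℕ → List ℕ) (fun _ => [])
    fun _ ih n => bif Nat.ble n 1 then [] else Nat.mod n 2 :: ih (Nat.div n 2)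

/-- The word of a row. -/
noncomputable def word5 (j : ℕ) : List ℕ :=
  unpackW 15 (Nat.land (Nat.shiftRight wordsN5 (16 * j)) 65535)

/-- The conjugating row. -/
noncomputable def wit5I (j : ℕ) : ℕ := Nat.land (Nat.shiftRight witN5 (16 * j)) 65535

/-- An entry of a column. -/
noncomputable def col5 (g j : ℕ) : ℕ := Nat.land (Nat.shiftRight (cols5.getD g 0) (16 * j)) 65535

/-- A label. -/
noncomputable def lab5I (j : ℕ) : ℕ := Nat.land (Nat.shiftRight labN5 (4 * j)) 15

/-- The product along a word by the columns. -/
noncomputable def run5 (i : ℕ) (w : List ℕ) : ℕ := w.foldl (fun c g => strict c fun c' => col5 g c') i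

/-- One row. -/
noncomputable def row5OK (j : ℕ) : Bool :=
  (word5 j).all (fun g => Nat.blt g 2) && strict (prod12 (word5 j)) fun P =>
    Nat.beq (Nat.shiftRight P 144) 0 && (List.range 2).all fun g => Nat.blt (col5 g j) 1344 &&
      Nat.beq (mul12 P (img12.getD g one12)) (prod12 (word5 (col5 g j)))

/-- The rows increase. -/
noncomputable def incr5OK (j : ℕ) : Bool :=
  Nat.blt (prod12 (word5 j)) (prod12 (word5 (j + 1)))

/-- The label is invariant under conjugation by a generator. -/
noncomputable def inv5OK (g i : ℕ) : Bool :=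
  strict (run5 (gidx5.getD g 0) (word5 i)) fun u =>
    Nat.beq (lab5I (run5 u (word5 (ginv5.getD g 0)))) (lab5I i)

/-- A witness of a label. -/
noncomputable def wit5OK (i : ℕ) : Bool :=
  Nat.blt (lab5I i) 11 && strict (wit5I i) fun t => Nat.blt t 1344 &&
    Nat.beq (run5 t (word5 i)) (run5 (reps5.getD (lab5I i) 0) (word5 t))

end CfsgLib.JFourClasses
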