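import Cfsg.Agent.Lib.JFourClasses.Count

/-!
# Pieces used for several primes
-/

set_option autoImplicit false
set_option linter.style.haveILetI false

namespace CfsgLib.JFourClasses

variable {G : Type*} [Group G]

/-- The largest prime dividing the order is `p`. -/
def topSet (G : Type*) [Group G] (p : ℕ) : Set G :=
  {g | p ∣ orderOf g ∧ ∀ q : ℕ, q.Prime → q ∣ orderOf g → q ≤ p}

/-- The primes dividing the order are at most `p`. -/
def Small (p : ℕ) (v : G) : Prop := ∀ q : ℕ, q.Prime → q ∣ orderOf v → q ≤ p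

theorem ncls_top [Finite G] {p : ℕ} (hp : p.Prime) (h2 : ∀ g : G, ¬ p ^ 2 ∣ orderOf g) {k : ℕ} (x : Fin k → G)
    (hx : ∀ a, orderOf (x a) = p) (hxa : ∀ a b, IsConj (x a) (x b) → a = b)
    (hxc : ∀ u, orderOf u = p → ∃ a, IsConj u (x a)) (n : Fin k → ℕ)
    (R : ∀ a, CentReps (x a) (Small p) (n a)) : ncls (topSet G p) = ∑ a, n a := by
  refine ncls_parts hp (topSet G p) x hx hxa hxc (Small p) (fun a b h hQ => ?_) (fun g _ => h2 g) (fun g => ?_) n R
  · simp only [Small, ← orderOf_of_isConj h]; exact hQ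
  constructor
  · rintro ⟨h1, hle⟩
    refine ⟨h1, fun u v he huv hu hv q hq hqv => hle q hq ?_⟩
    rw [he, huv.orderOf_mul_eq_mul_orderOf_of_coprime (by rw [hu]; exact hv.symm)]
    exact hqv.mul_left _
  · rintro ⟨h1, hQ⟩
    refine ⟨h1, fun q hq hqg => ?_⟩
    obtain ⟨u, v, he, huv, hu, hv, ho, -, -⟩ := exists_part hp h1 (h2 g)
    rcases (hq.dvd_mul).1 (ho ▸ hqg) with h | h
    · exact Nat.le_of_dvd hp.pos h
    · exact hQ u v he huv hu hv q hq h

/-- A subgroup of prime power order in `C` has a conjugate in a Sylow subgroup `S` of `C`. -/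
theorem exists_conj_into [Finite G] {p : ℕ} [Fact p.Prime] {C S : Subgroup G} (hS : S ≤ C)
    (hc : Nat.card S = p ^ (Nat.card C).factorization p) {Q : Subgroup G} (hQ : Q ≤ C) (hp : IsPGroup p Q) :
    ∃ d ∈ C, ∀ q ∈ Q, d * q * d⁻¹ ∈ S := by
  let S' : Sylow p ↥C := Sylow.ofCard (S.subgroupOf C) (by
    rw [Nat.card_congr (Subgroup.subgroupOfEquivOfLe hS).toEquiv, hc])
  obtain ⟨P, hP⟩ := (hp.of_equiv (Subgroup.subgroupOfEquivOfLe hQ).symm).exists_le_sylow
  obtain ⟨d, hd⟩ := MulAction.exists_smul_eq ↥C P S'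
  refine ⟨d, d.2, fun q hq => ?_⟩
  have h1 : (S' : Subgroup ↥C) = (P : Subgroup ↥C).map (MulAut.conj d).toMonoidHom := by
    rw [← hd, Sylow.coe_subgroup_smul]; rfl
  exact Subgroup.mem_subgroupOf.1 (h1.ge ⟨⟨q, hQ hq⟩, hP (Subgroup.mem_subgroupOf.2 hq), rfl⟩)

end CfsgLib.JFourClasses
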