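import Cfsg.Agent.Lib.JFourClasses.ThreeTable
import Cfsg.Agent.Lib.JFourClasses.Facts
import Cfsg.Agent.Lib.JFourClasses.Pieces

/-!
# The nine classes of elements with largest prime three
-/

set_option autoImplicit false
set_option maxRecDepth 100000
set_option linter.style.haveILetI false

namespace CfsgLib.JFourClasses

open Cfsg CfsgLib.CosetEnum CfsgLib.J4Pres Cfsg.Spor CfsgLib.JFourPrime

theorem x3_ok : Nat.beq (powP (wP x3W) 3) oneP = true ∧
    (List.range 12544).any (fun i => diffP (wP x3W) oneP i) = true := by decide +kernel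

theorem has_pow {a : J4} {P : ℕ} (h : Has a P) : ∀ k, Has (a ^ k) (powP P k)
  | 0 => by rw [pow_zero]; exact has_one
  | k + 1 => by rw [pow_succ]; exact (has_pow h k).mul h

theorem shift_lt {A : ℕ} (h : Nat.beq (Nat.shiftRight A 12544) 0 = true) : A < 2 ^ 12544 := by
  have h' : A >>> 12544 = 0 := Nat.eq_of_beq_eq_true h
  rw [Nat.shiftRight_eq_div_pow, Nat.div_eq_zero_iff] at h'
  exact h'.resolve_left (Nat.two_pow_pos _).ne'

/-- The element of order three. -/
noncomputable def x3 : J4 := elt x3W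

theorem order_x3 : orderOf x3 = 3 := by
  haveI := Fact.mk Nat.prime_three
  obtain ⟨i, -, hi⟩ := List.any_eq_true.1 x3_ok.2
  exact orderOf_eq_prime ((has_pow (has_elt x3W) 3).eq has_one x3_ok.1) ((has_elt x3W).ne has_one hi)

theorem tab3_tab : Tab sg3W sg3P tab3 one3Idx where
  gens := sg3_ok
  rows j hj := by
    rw [len3_ok.1] at hj
    by_cases h : j < 128
    · exact List.all_eq_true.1 rows3a_ok j (List.mem_range.2 h)
    · obtain ⟨k, rfl⟩ : ∃ k, j = 128 + k := ⟨j - 128, by omega⟩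
      exact List.all_eq_true.1 rows3b_ok k (List.mem_range.2 (by omega))
  incr j hj := List.all_eq_true.1 incr3_ok j (List.mem_range.2 (by rw [len3_ok.1] at hj; omega))
  one_ok := ⟨len3_ok.1.symm ▸ len3_ok.2.1, len3_ok.2.2.1⟩

theorem bnd3 (k : ℕ) (hk : k < tab3.length) : genP sg3P (tab3.getD k ([], [])).1 < 2 ^ 12544 :=
  bnd_spec (List.all_eq_true.1 bnd3_ok k (List.mem_range.2 (len3_ok.1 ▸ hk)))

/-- An element of the Sylow two-subgroup. -/
noncomputable def e3 (j : ℕ) : J4 := tab3_tab.el j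

theorem has_e3 (j : ℕ) : Has (e3 j) (genP sg3P (tab3.getD j ([], [])).1) := has_genE sg3_ok _

theorem e3_comm (j : ℕ) : Commute (e3 j) x3 := comm_genE sg3_ok comm3_ok.1 (has_elt x3W) _

theorem e3_inj {i j : ℕ} (hi : i < 256) (hj : j < 256) (h : e3 i = e3 j) : i = j :=
  tab3_tab.el_inj (len3_ok.1.symm ▸ hi) (len3_ok.1.symm ▸ hj) h bnd3

/-- The Sylow two-subgroup. -/
noncomputable def S3 : Subgroup J4 := Subgroup.closure {a | ∃ g < sg3W.length, elt (sg3W.getD g []) = a}

theorem card_S3 : Nat.card S3 = 256 := (tab3_tab.card_closure bnd3).trans len3_ok.1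

theorem S3_le : S3 ≤ cent x3 := by
  rw [S3, Subgroup.closure_le]
  rintro _ ⟨g, -, rfl⟩
  exact mem_cent.2 (comm_gen sg3_ok comm3_ok.1 (has_elt x3W) g).eq

theorem mem_S3 {a : J4} (h : a ∈ S3) : ∃ j < 256, e3 j = a := len3_ok.1 ▸ tab3_tab.closure_spec a h

theorem runI_spec {i : ℕ} (hi : i < 256) {j : ℕ} (hj : j < 256) :
    runI i (tab3.getD j ([], [])).1 < 256 ∧ e3 (runI i (tab3.getD j ([], [])).1) = e3 i * e3 j := by
  have hl := sg3_ok
  simp only [gensOK, Bool.and_eq_true] at hl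
  have hlen := Nat.eq_of_beq_eq_true hl.1
  have key : ∀ (w : List ℕ) (c : ℕ), c < 256 → (∀ g ∈ w, g < sg3W.length) →
      runI c w = w.foldl (fun c g => (tab3.getD c ([], [])).2.getD g 0) c := by
    intro w
    induction w with
    | nil => intro c _ _; rfl
    | cons g w ih =>
      intro c hc h
      rw [List.forall_mem_cons] at h
      have hag := List.all_eq_true.1 cols_agree c (List.mem_range.2 hc)
      simp only [Bool.and_eq_true, List.all_eq_true, List.mem_range] at hag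
      have he := Nat.eq_of_beq_eq_true (hag.2 g (hlen ▸ h.1))
      have hs := (tab3_tab.step (len3_ok.1.symm ▸ hc) h.1).1
      rw [len3_ok.1, he] at hs
      simp only [runI, List.foldl_cons, strict_eq] at ih ⊢
      rw [he, ih _ hs h.2]
  have hi' : i < tab3.length := len3_ok.1.symm ▸ hi
  have hj' : j < tab3.length := len3_ok.1.symm ▸ hj
  rw [key _ i hi fun g hg => tab3_tab.word_lt hj' hg]
  exact len3_ok.1 ▸ tab3_tab.el_mulI hi' hj'

theorem labI_eq {j : ℕ} (hj : j < 256) : lab3.getD j 9 = labI j := by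
  have hag := List.all_eq_true.1 cols_agree j (List.mem_range.2 hj)
  simp only [Bool.and_eq_true] at hag
  exact Nat.eq_of_beq_eq_true hag.1

/-- A representative. -/
noncomputable def r3 (c : ℕ) : J4 := e3 (reps3.getD c 0)

theorem cg3_comm (w : List ℕ) : Commute (genE cg3W w) x3 := comm_genE cg3_ok comm3_ok.2 (has_elt x3W) w

theorem wit3_spec {j : ℕ} (hj : j < 256) :
    labI j < 9 ∧ ∃ c : J4, Commute c x3 ∧ c * e3 j * c⁻¹ = r3 (labI j) := by
  obtain ⟨W, hW⟩ : ∃ W, witPartOK (j / 64) W = true := by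
    have : j / 64 < 4 := by omega
    interval_cases h : j / 64
    exacts [⟨_, wit3a_ok⟩, ⟨_, wit3b_ok⟩, ⟨_, wit3c_ok⟩, ⟨_, wit3d_ok⟩]
  simp only [witPartOK, List.all_eq_true, List.mem_range, Bool.and_eq_true, Nat.blt_eq] at hW
  obtain ⟨h1, h2⟩ := hW (j % 64) (by omega)
  rw [show 64 * (j / 64) + j % 64 = j by omega, labI_eq hj] at h1 h2
  exact ⟨h1, _, cg3_comm _, wit_spec cg3_ok (has_e3 j) (has_e3 _) h2⟩

theorem rank3_spec {c : ℕ} (hc : c < 9) : rankPow (x3 * r3 c) 1 = (ranks3.getD c []).getD 0 0 ∧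
    rankPow (r3 c) 1 = (ranks3.getD c []).getD 1 0 ∧ rankPow (r3 c) 3 = (ranks3.getD c []).getD 2 0 := by
  obtain ⟨cs, h⟩ : ∃ cs, rank3OK c cs = true := by
    interval_cases c
    exacts [⟨_, rank3_0⟩, ⟨_, rank3_1⟩, ⟨_, rank3_2⟩, ⟨_, rank3_3⟩, ⟨_, rank3_4⟩, ⟨_, rank3_5⟩, ⟨_, rank3_6⟩,
      ⟨_, rank3_7⟩, ⟨_, rank3_8⟩]
  simp only [rank3OK, strict_eq, Bool.and_eq_true] at h
  exact ⟨rankPow_eq ((has_elt x3W).mul (has_e3 _)) h.1.1, rankPow_eq (has_e3 _) h.1.2, rankPow_eq (has_e3 _) h.2⟩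

theorem ranks3_sep' : ∀ a < 9, ∀ b < 9,
    [(ranks3.getD a []).getD 0 0, (ranks3.getD a []).getD 1 0, (ranks3.getD a []).getD 2 0] =
      [(ranks3.getD b []).getD 0 0, (ranks3.getD b []).getD 1 0, (ranks3.getD b []).getD 2 0] →
    a = b ∨ (a = 6 ∧ b = 7) ∨ (a = 7 ∧ b = 6) := by decide +kernel

/-- Conjugation in the centralizer separates all but one pair. -/
theorem three_sep {a b : ℕ} (ha : a < 9) (hb : b < 9) {c : J4} (hc : Commute c x3)
    (h : c * r3 a * c⁻¹ = r3 b) : a = b ∨ (a = 6 ∧ b = 7) ∨ (a = 7 ∧ b = 6) := by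
  obtain ⟨a0, a1, a2⟩ := rank3_spec ha
  obtain ⟨b0, b1, b2⟩ := rank3_spec hb
  have hx : c * (x3 * r3 a) * c⁻¹ = x3 * r3 b := by
    rw [← mul_assoc, hc.eq, mul_assoc, mul_assoc, ← mul_assoc c, h]
  refine ranks3_sep' a ha b hb ?_
  rw [← a0, ← b0, ← hx, rankPow_conj, ← a1, ← b1, ← a2, ← b2, ← h, rankPow_conj, rankPow_conj]

variable (F : Num J4)

include F

theorem three_sylow {Q : Subgroup J4} (hQ : Q ≤ cent x3) (hp : IsPGroup 2 Q) :
    ∃ d ∈ cent x3, ∀ q ∈ Q, ∃ j < 256, e3 j = d * q * d⁻¹ := by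
  haveI := finite_J4
  haveI := Fact.mk Nat.prime_two
  obtain ⟨d, hd, h⟩ := exists_conj_into S3_le (p := 2) (by
    rw [card_S3, F.cent_three x3 order_x3, show (2661120 : ℕ) = 2 ^ 8 * 10395 by norm_num,
      Nat.factorization_mul (by norm_num) (by norm_num), Finsupp.add_apply, Nat.factorization_pow]
    simp [Nat.prime_two.factorization_self, Nat.factorization_eq_zero_of_not_dvd (show ¬ 2 ∣ 10395 by norm_num)])
    hQ hp
  exact ⟨d, hd, fun q hq => mem_S3 (h q hq)⟩

/-- The involution in the centre. -/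
theorem z3_central : orderOf (e3 z3Idx) = 2 ∧ ∀ c : J4, Commute c x3 → Commute c (e3 z3Idx) := by
  haveI := finite_J4
  obtain ⟨i, hi, hc⟩ := F.cent_three_inv x3 order_x3
  have hix : i ∈ cent x3 := mem_cent.2 (hc x3 (mem_cent.2 rfl)).eq.symm
  obtain ⟨d, hd, h⟩ := three_sylow F (Subgroup.zpowers_le.2 hix)
    (IsPGroup.of_card (n := 1) (by rw [Nat.card_zpowers, hi, pow_one]))
  obtain ⟨j, hj, he⟩ := h i (Subgroup.mem_zpowers i)
  rw [(hc d hd).eq, mul_inv_cancel_right] at he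
  have hm := List.all_eq_true.1 moved3_ok j (List.mem_range.2 hj)
  simp only [Bool.or_eq_true, moved3, strict_eq] at hm
  rcases hm with (h1 | h1) | h1
  · exfalso
    have : e3 j = 1 := (Nat.eq_of_beq_eq_true h1).symm ▸ tab3_tab.el_one
    rw [he] at this
    rw [this, orderOf_one] at hi
    omega
  · rw [← Nat.eq_of_beq_eq_true h1, he]
    exact ⟨hi, fun c hcx => hc c (mem_cent.2 hcx.eq)⟩
  · exfalso
    obtain ⟨g, hg, hne⟩ := List.any_eq_true.1 h1
    obtain ⟨k, hk, rfl⟩ := List.getElem_of_mem hg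
    simp only [strict_eq, Bool.and_eq_true, Bool.not_eq_true'] at hne
    obtain ⟨⟨hne, hA⟩, hB⟩ := hne
    refine Bool.eq_false_iff.1 hne ?_
    have hgen : Has (elt (cg3W.getD k [])) cg3P[k] := by
      rw [← List.getD_eq_getElem _ oneP hk]; exact has_gen cg3_ok k
    have hcomm : Commute (elt (cg3W.getD k [])) (e3 j) :=
      he ▸ hc _ (mem_cent.2 (comm_gen cg3_ok comm3_ok.2 (has_elt x3W) k).eq)
    rw [Nat.beq_eq]
    exact has_unique (hgen.mul (has_e3 j)) (hcomm.eq ▸ (has_e3 j).mul hgen) (shift_lt hA) (shift_lt hB)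

theorem three_apart {a b : ℕ} (ha : a < 9) (hb : b < 9) {c : J4} (hc : Commute c x3)
    (h : c * r3 a * c⁻¹ = r3 b) : a = b := by
  haveI := finite_J4
  haveI := Fact.mk Nat.prime_two
  obtain ⟨hz, hzc⟩ := z3_central F
  have hcase : ∀ c : J4, Commute c x3 → c * r3 6 * c⁻¹ ≠ r3 7 := by
    intro c hc h
    have h6 : reps3.getD 6 0 < 256 := (reps3_lt 6 (by norm_num)).1
    obtain ⟨hu, heu⟩ := runI_spec h6 len3_ok.2.2.2.2.2
    obtain ⟨-, w, hw, hwe⟩ := wit3_spec hu
    rw [pairz3, heu] at hwe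
    set y := r3 6 with hy
    set z := e3 z3Idx with hzd
    set e := w⁻¹ * c with hed
    have hex : Commute e x3 := hw.inv_left.mul_left hc
    have hey : e * y * e⁻¹ = y * z := by
      calc e * y * e⁻¹ = w⁻¹ * (c * y * c⁻¹) * w := by rw [hed]; group
        _ = w⁻¹ * (w * (y * z) * w⁻¹) * w := by rw [h, ← hwe]; rfl
        _ = _ := by group
    have hez : e * z * e⁻¹ = z := by rw [(hzc e hex).eq, mul_inv_cancel_right]
    have hzz : z * z = 1 := by rw [← pow_two, ← hz, pow_orderOf_eq_one]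
    have heven : ∀ n : ℕ, e ^ (2 * n) * y * (e ^ (2 * n))⁻¹ = y := by
      intro n
      induction n with
      | zero => simp
      | succ n ih =>
        calc e ^ (2 * (n + 1)) * y * (e ^ (2 * (n + 1)))⁻¹
            = e * (e * (e ^ (2 * n) * y * (e ^ (2 * n))⁻¹) * e⁻¹) * e⁻¹ := by
              rw [show 2 * (n + 1) = 1 + (1 + 2 * n) by omega, pow_add, pow_add, pow_one]; group
          _ = e * (y * z) * e⁻¹ := by rw [ih, hey]
          _ = (e * y * e⁻¹) * (e * z * e⁻¹) := by group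
          _ = y := by rw [hey, hez, mul_assoc, hzz, mul_one]
    obtain ⟨k, m, hm, hkm⟩ := Nat.exists_eq_two_pow_mul_odd (orderOf_pos e).ne'
    obtain ⟨n, rfl⟩ := hm
    set f := e ^ (2 * n + 1) with hfd
    have hfy : f * y * f⁻¹ = y * z := by
      calc f * y * f⁻¹ = e * (e ^ (2 * n) * y * (e ^ (2 * n))⁻¹) * e⁻¹ := by rw [hfd, pow_succ']; group
        _ = _ := by rw [heven, hey]
    have hfx : Commute f x3 := hex.pow_left _
    have hfp : IsPGroup 2 (Subgroup.zpowers f) := by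
      obtain ⟨i, -, hi⟩ := (Nat.dvd_prime_pow Nat.prime_two).1
        (orderOf_dvd_of_pow_eq_one (show f ^ 2 ^ k = 1 by
          rw [hfd, ← pow_mul, mul_comm, ← hkm, pow_orderOf_eq_one]))
      exact IsPGroup.of_card (n := i) (by rw [Nat.card_zpowers, hi])
    have hyS : y ∈ S3 := tab3_tab.el_mem.resolve_right (not_not.2 (len3_ok.1.symm ▸ h6))
    have hzS : z ∈ S3 := tab3_tab.el_mem.resolve_right (not_not.2 (len3_ok.1.symm ▸ len3_ok.2.2.2.2.2))
    have hS : IsPGroup 2 S3 := IsPGroup.of_card (n := 8) card_S3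
    set A := Subgroup.closure ({y, z} : Set J4) with hA
    have hAS : A ≤ S3 := (Subgroup.closure_le _).2 (Set.insert_subset_iff.2 ⟨hyS, Set.singleton_subset_iff.2 hzS⟩)
    have hfz : f * z * f⁻¹ = z := by rw [(hzc f hfx).eq, mul_inv_cancel_right]
    have hfA : Subgroup.zpowers f ≤ Subgroup.normalizer (A : Set J4) := by
      rw [Subgroup.zpowers_le]
      refine Subgroup.mem_normalizer_iff_map_conj_eq.2 (le_antisymm ?_ ?_)
      · rw [hA, MonoidHom.map_closure, Subgroup.closure_le]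
        rintro _ ⟨x, hx, rfl⟩
        rcases hx with rfl | rfl
        · exact (congrArg (· ∈ A) hfy).mpr
            (mul_mem (Subgroup.subset_closure (Or.inl rfl)) (Subgroup.subset_closure (Or.inr rfl)))
        · exact (congrArg (· ∈ A) hfz).mpr (Subgroup.subset_closure (Or.inr rfl))
      · rw [hA, Subgroup.closure_le]
        rintro x (rfl | rfl)
        · refine ⟨y * z, mul_mem (Subgroup.subset_closure (Or.inl rfl)) (Subgroup.subset_closure (Or.inr rfl)), ?_⟩
          show f * (y * z) * f⁻¹ = y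
          calc f * (y * z) * f⁻¹ = f * y * f⁻¹ * (f * z * f⁻¹) := by group
            _ = y := by rw [hfy, hfz, mul_assoc, hzz, mul_one]
        · exact ⟨z, Subgroup.subset_closure (Or.inr rfl), hfz⟩
    have hQ : Subgroup.zpowers f ⊔ A ≤ cent x3 :=
      sup_le (Subgroup.zpowers_le.2 (mem_cent.2 hfx.eq)) (hAS.trans S3_le)
    obtain ⟨d, hd, hin⟩ := three_sylow F hQ (hfp.to_sup_of_normal_right' (hS.to_le hAS) hfA)
    obtain ⟨s, hs, hse⟩ := hin y (Subgroup.mem_sup_right (Subgroup.subset_closure (Or.inl rfl)))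
    obtain ⟨t, ht, hte⟩ := hin f (Subgroup.mem_sup_left (Subgroup.mem_zpowers f))
    have hdx : Commute d x3 := mem_cent.1 hd
    have hdz : d * z * d⁻¹ = z := by rw [(hzc d hdx).eq, mul_inv_cancel_right]
    obtain ⟨hls, v, hv, hve⟩ := wit3_spec hs
    have hlab : labI s = 6 ∨ labI s = 7 := by
      rcases three_sep (by norm_num : 6 < 9) hls (hv.mul_left hdx)
        (show v * d * r3 6 * (v * d)⁻¹ = r3 (labI s) by rw [← hve, hse, hy]; group) with e | ⟨-, e⟩ | ⟨e, -⟩
      exacts [Or.inl e.symm, Or.inr e, by omega]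
    have hp := List.all_eq_true.1 pairs3_ok s (List.mem_range.2 hs)
    simp only [pairStep, hlab, if_true, strict_eq, List.all_eq_true, List.mem_range, Bool.not_eq_true'] at hp
    obtain ⟨hsz, hsze⟩ := runI_spec hs len3_ok.2.2.2.2.2
    obtain ⟨h1, h1e⟩ := runI_spec ht hs
    obtain ⟨h2, h2e⟩ := runI_spec hsz ht
    refine Bool.eq_false_iff.1 (hp t ht) (Nat.beq_eq.mpr (e3_inj h1 h2 ?_))
    rw [h1e, h2e, hsze, hse, hte]
    calc d * f * d⁻¹ * (d * y * d⁻¹) = d * (f * y * f⁻¹) * f * d⁻¹ := by group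
      _ = d * y * d⁻¹ * (d * z * d⁻¹) * (d * f * d⁻¹) := by rw [hfy]; group
      _ = _ := by rw [hdz]
  rcases three_sep ha hb hc h with e | ⟨rfl, rfl⟩ | ⟨rfl, rfl⟩
  · exact e
  · exact absurd h (hcase c hc)
  · refine absurd ?_ (hcase c⁻¹ hc.inv_left)
    rw [← h]; group

/-- The classes in the centralizer of the element of order three. -/
noncomputable def threeCent : CentReps x3 (Small 3) 9 where
  rep c := r3 c.val
  comm c := (e3_comm _).symm
  cop c := by
    haveI := finite_J4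
    haveI := Fact.mk Nat.prime_two
    obtain ⟨k, hk⟩ := (IsPGroup.of_card (p := 2) (n := 8) card_S3) ⟨r3 c.val,
      tab3_tab.el_mem.resolve_right (not_not.2 (len3_ok.1.symm ▸ (reps3_lt c.val c.2).1))⟩
    rw [order_x3]
    exact Nat.Coprime.coprime_dvd_left (orderOf_dvd_of_pow_eq_one (by simpa using congrArg Subtype.val hk))
      (Nat.Coprime.pow_left _ (by norm_num))
  good c := by
    haveI := finite_J4
    haveI := Fact.mk Nat.prime_two
    obtain ⟨k, hk⟩ := (IsPGroup.of_card (p := 2) (n := 8) card_S3) ⟨r3 c.val,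
      tab3_tab.el_mem.resolve_right (not_not.2 (len3_ok.1.symm ▸ (reps3_lt c.val c.2).1))⟩
    intro q hq hqd
    have := Nat.le_of_dvd (by norm_num)
      (hq.dvd_of_dvd_pow (hqd.trans (orderOf_dvd_of_pow_eq_one (show r3 c.val ^ 2 ^ k = 1 by
        simpa using congrArg Subtype.val hk))))
    omega
  apart a b c hc h := Fin.ext (three_apart F a.2 b.2 hc h)
  cover y hy hcop hQ := by
    haveI := finite_J4
    obtain ⟨k, hk⟩ : ∃ k, orderOf y = 2 ^ k := by
      refine ⟨_, Nat.eq_prime_pow_of_unique_prime_dvd (orderOf_pos y).ne' fun {q} hq hqd => ?_⟩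
      have h3 : q ≠ 3 := fun e => by
        have := Nat.Coprime.coprime_dvd_left (e ▸ hqd) hcop
        rw [order_x3] at this
        norm_num at this
      have := hQ q hq hqd
      have := hq.two_le
      omega
    obtain ⟨d, hd, h⟩ := three_sylow F (Subgroup.zpowers_le.2 (mem_cent.2 hy.eq.symm))
      (IsPGroup.of_card (n := k) (by rw [Nat.card_zpowers, hk]))
    obtain ⟨j, hj, he⟩ := h y (Subgroup.mem_zpowers y)
    obtain ⟨hl, c, hc, hce⟩ := wit3_spec hj
    refine ⟨⟨labI j, hl⟩, c * d, hc.mul_left (mem_cent.1 hd), ?_⟩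
    rw [← hce, he]
    group

/-- The elements with largest prime three fall into nine classes. -/
theorem ncls_three : ncls (topSet J4 3) = 9 := by
  haveI := finite_J4
  rw [ncls_top Nat.prime_three (fun g h => F.no_nine _ (orderOf_pow_orderOf_div (orderOf_pos g).ne' h))
    (fun _ : Fin 1 => x3) (fun _ => order_x3) (fun a b _ => Subsingleton.elim a b)
    (fun u hu => ⟨0, F.three u x3 hu order_x3⟩) (fun _ => 9) fun _ => threeCent F]
  simp

end CfsgLib.JFourClasses
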