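import Cfsg.Agent.Lib.JFourClasses.FiveCheck
import Cfsg.Agent.Lib.JFourClasses.Three

/-!
# The representation of degree twelve of the centralizer of an element of order five
-/

set_option autoImplicit false
set_option maxRecDepth 100000
set_option linter.style.haveILetI false

namespace CfsgLib.JFourClasses

open Cfsg CfsgLib.CosetEnum CfsgLib.J4Rep CfsgLib.J4Pres Cfsg.Spor CfsgLib.JFourPrime

/-- The element of order five. -/
noncomputable def x5 : J4 := elt x5W

theorem x5_spec : orderOf x5 = 5 ∧ toMatP 112 modB * (rho x5 : U112).val = toMatP 112 modB := by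
  have h := x5_ok
  simp only [strict_eq, Bool.and_eq_true, List.any_eq_true] at h
  obtain ⟨⟨h5, hB⟩, i, -, hi⟩ := h
  haveI := Fact.mk (show Nat.Prime 5 by norm_num)
  refine ⟨orderOf_eq_prime ((has_pow (has_elt x5W) 5).eq has_one h5) ((has_elt x5W).ne has_one hi), ?_⟩
  have hx : (rho x5 : U112).val = toMatP 112 (wP x5W) := has_elt x5W
  rw [hx, ← toMatP_mulP, Nat.eq_of_beq_eq_true hB]

/-- The generators. -/
noncomputable def gE (k : ℕ) : J4 := if k < 2 then elt (cg5W.getD k []) else x5

/-- The centralizer, as a generated group. -/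
noncomputable def K5 : Subgroup J4 := Subgroup.closure (Set.range gE)

theorem K5_le : K5 ≤ cent x5 := by
  rw [K5, Subgroup.closure_le]
  rintro _ ⟨k, rfl⟩
  unfold gE
  split
  · exact mem_cent.2 (comm_gen cg5_ok.1 cg5_ok.2.2 (has_elt x5W) k).eq
  · exact mem_cent.2 rfl

/-- The action on the invariant subspace. -/
noncomputable def actX (a : J4) : Matrix (Fin 112) (Fin 112) (ZMod 2) :=
  toMatP 112 modB * (rho a : U112).val * toMatP 112 modR

/-- The first twelve rows and columns. -/
noncomputable def sub12 (M : Matrix (Fin 112) (Fin 112) (ZMod 2)) : Matrix (Fin 12) (Fin 12) (ZMod 2) :=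
  M.submatrix (Fin.castLE (by omega)) (Fin.castLE (by omega))

theorem modE_diag :
    toMatP 112 modE = Matrix.diagonal fun i : Fin 112 => if i.val < 12 then (1 : ZMod 2) else 0 := by
  rw [Nat.eq_of_beq_eq_true mod_ok.2.1, toMatP_projP]

theorem mod_mats : toMatP 112 modB * toMatP 112 modR = toMatP 112 modE ∧
    toMatP 112 modE * toMatP 112 modB = toMatP 112 modB ∧ toMatP 112 modR * toMatP 112 modE = toMatP 112 modR :=
  ⟨by rw [← toMatP_mulP, Nat.eq_of_beq_eq_true mod_ok.1], by rw [← toMatP_mulP, Nat.eq_of_beq_eq_true mod_ok.2.2.1],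
    by rw [← toMatP_mulP, Nat.eq_of_beq_eq_true mod_ok.2.2.2]⟩

theorem sub12_mul {X : Matrix (Fin 112) (Fin 112) (ZMod 2)} (Y : Matrix (Fin 112) (Fin 112) (ZMod 2))
    (hX : X * toMatP 112 modE = X) : sub12 (X * Y) = sub12 X * sub12 Y := by
  have h0 : ∀ i k : Fin 112, ¬ k.val < 12 → X i k = 0 := fun i k hk => by
    conv_lhs => rw [← hX, modE_diag, Matrix.mul_diagonal, if_neg hk, mul_zero]
  ext i j
  simp only [sub12, Matrix.submatrix_apply, Matrix.mul_apply]
  rw [← Finset.sum_subset (Finset.subset_univ (Finset.univ.map (Fin.castLEEmb (show 12 ≤ 112 by omega))))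
    fun k _ hk => by
      rw [h0 _ k (fun hlt => hk (Finset.mem_map.2 ⟨⟨k.val, hlt⟩, Finset.mem_univ _, Fin.ext rfl⟩)), zero_mul],
    Finset.sum_map]
  rfl

theorem sub12_E : sub12 (toMatP 112 modE) = 1 := by
  rw [sub12, modE_diag, Matrix.submatrix_diagonal _ _ (Fin.castLE_injective _), ← Matrix.diagonal_one]
  congr 1
  funext i
  simp

theorem actX_spec : ∀ a ∈ K5, actX a * toMatP 112 modB = toMatP 112 modB * (rho a : U112).val := by
  haveI := finite_J4
  intro a ha
  rw [K5, ← Subgroup.mem_toSubmonoid, Subgroup.closure_toSubmonoid_of_finite] at ha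
  induction ha using Submonoid.closure_induction_right with
  | one =>
    simp only [actX, map_one, Units.val_one, mul_one]
    rw [mod_mats.1, mod_mats.2.1]
  | mul_right a _ b hb ih =>
    obtain ⟨k, rfl⟩ := hb
    have hk : actX (gE k) * toMatP 112 modB = toMatP 112 modB * (rho (gE k) : U112).val := by
      unfold gE
      split
      next h =>
        have hi := List.all_eq_true.1 img_ok k (List.mem_range.2 h)
        simp only [Bool.and_eq_true] at hi
        have hg : (rho (elt (cg5W.getD k [])) : U112).val = toMatP 112 (cg5P.getD k oneP) := has_gen cg5_ok.1 k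
        rw [actX, hg, ← toMatP_mulP, ← toMatP_mulP, Nat.eq_of_beq_eq_true hi.1.1, ← toMatP_mulP,
          Nat.eq_of_beq_eq_true hi.1.2, toMatP_mulP]
      next =>
        rw [actX, x5_spec.2, mod_mats.1, mod_mats.2.1]
    have h2 : toMatP 112 modB * (rho (a * gE k) : U112).val =
        actX a * (actX (gE k) * toMatP 112 modB) := by
      rw [map_mul, Units.val_mul, ← mul_assoc, ← ih, mul_assoc, hk]
    have h3 : actX (a * gE k) = actX a * actX (gE k) := by
      conv_lhs => rw [actX, h2]
      simp only [mul_assoc]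
      rw [mod_mats.1, show actX (gE k) * toMatP 112 modE = actX (gE k) by rw [actX, mul_assoc, mod_mats.2.2]]
    rw [h3, mul_assoc, ← h2]

theorem actX_mul {a b : J4} (ha : a ∈ K5) : actX (a * b) = actX a * actX b := by
  simp only [actX, map_mul, Units.val_mul]
  calc toMatP 112 modB * ((rho a : U112).val * (rho b : U112).val) * toMatP 112 modR
      = toMatP 112 modB * (rho a : U112).val * (rho b : U112).val * toMatP 112 modR := by
        simp only [mul_assoc]
    _ = actX a * toMatP 112 modB * (rho b : U112).val * toMatP 112 modR := by rw [actX_spec a ha]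
    _ = _ := by simp only [actX, mul_assoc]

/-- The representation of degree twelve. -/
noncomputable def phi5 : ↥K5 →* Matrix (Fin 12) (Fin 12) (ZMod 2) where
  toFun a := sub12 (actX a)
  map_one' := by
    simp only [actX, OneMemClass.coe_one, map_one, Units.val_one, mul_one]
    rw [mod_mats.1, sub12_E]
  map_mul' a b := by
    rw [Subgroup.coe_mul, actX_mul a.2, sub12_mul]
    rw [actX, mul_assoc, mod_mats.2.2]

theorem toMatP_one12 : toMatP 12 one12 = 1 := by
  ext i j
  have h := List.all_eq_true.1 (List.all_eq_true.1 one12_ok.1 i.val (List.mem_range.2 i.2)) j.val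
    (List.mem_range.2 j.2)
  rw [beq_iff_eq] at h
  simp only [toMatP, bitV, h, Matrix.one_apply, Fin.ext_iff]
  rcases eq_or_ne i.val j.val with e | e
  · simp [e]
  · rw [show Nat.beq i.val j.val = false from Bool.eq_false_iff.2 fun he => e (Nat.eq_of_beq_eq_true he)]
    simp [e]

theorem toMatP_mul12 (P Q : ℕ) : toMatP 12 (mul12 P Q) = toMatP 12 P * toMatP 12 Q := by
  ext i j
  rw [Matrix.mul_apply]
  show bitV (mulWith 12 mask12 P Q) _ = _
  rw [one12_ok.2]
  refine (bitV_acc P Q i j 12 0).trans ?_
  rw [bitV_zero, zero_add]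
  exact (Fin.sum_univ_eq_sum_range (fun k => bitV P (12 * i.val + k) * bitV Q (12 * k + j.val)) 12).symm

/-- A generator in the centralizer. -/
noncomputable def g5 (k : ℕ) : ↥K5 := ⟨gE k, Subgroup.subset_closure ⟨k, rfl⟩⟩

theorem phi5_g5 {k : ℕ} (hk : k < 2) : phi5 (g5 k) = toMatP 12 (img12.getD k one12) := by
  have hi := List.all_eq_true.1 img_ok k (List.mem_range.2 hk)
  simp only [Bool.and_eq_true, List.all_eq_true, List.mem_range, beq_iff_eq] at hi
  have hg : (rho (gE k) : U112).val = toMatP 112 (cg5P.getD k oneP) := by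
    rw [gE, if_pos hk]; exact has_gen cg5_ok.1 k
  show sub12 (actX (gE k)) = _
  rw [actX, hg, ← toMatP_mulP, ← toMatP_mulP, Nat.eq_of_beq_eq_true hi.1.1]
  ext i j
  have hb := hi.2 (12 * i.val + j.val) (by omega)
  rw [show (12 * i.val + j.val) / 12 = i.val by omega, show (12 * i.val + j.val) % 12 = j.val by omega] at hb
  simp only [sub12, Matrix.submatrix_apply, toMatP, bitV, Fin.coe_castLE, hb]

theorem phi5_x5 {k : ℕ} (hk : ¬ k < 2) : phi5 (g5 k) = 1 := by
  show sub12 (actX (gE k)) = 1
  rw [gE, if_neg hk, actX, x5_spec.2, mod_mats.1, sub12_E]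

attribute [irreducible] phi5

end CfsgLib.JFourClasses
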