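import Cfsg.Agent.Lib.JFourClasses.FiveHom

/-!
# The image of the centralizer of an element of order five
-/

set_option autoImplicit false
set_option maxRecDepth 100000
set_option linter.style.haveILetI false

namespace CfsgLib.JFourClasses

open Cfsg CfsgLib.CosetEnum CfsgLib.J4Rep CfsgLib.J4Pres Cfsg.Spor CfsgLib.JFourPrime

theorem row5_all {j : ℕ} (hj : j < 1344) : row5OK j = true := by
  obtain ⟨q, hq, k, hk, rfl⟩ : ∃ q < 4, ∃ k < 336, j = q * 336 + k :=
    ⟨j / 336, by omega, j % 336, by omega, by omega⟩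
  interval_cases q
  · simpa using List.all_eq_true.1 rows5a_ok k (List.mem_range.2 hk)
  · simpa using List.all_eq_true.1 rows5b_ok k (List.mem_range.2 hk)
  · simpa using List.all_eq_true.1 rows5c_ok k (List.mem_range.2 hk)
  · simpa using List.all_eq_true.1 rows5d_ok k (List.mem_range.2 hk)

theorem word5_lt {j g : ℕ} (hj : j < 1344) (hg : g ∈ word5 j) : g < 2 := by
  have h := row5_all hj
  simp only [row5OK, Bool.and_eq_true, List.all_eq_true, Nat.blt_eq] at h
  exact h.1 g hg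

/-- The element along a word. -/
noncomputable def pr5 (w : List ℕ) : ↥K5 := prodW g5 w

theorem phi5_pr5 : ∀ {w : List ℕ}, (∀ g ∈ w, g < 2) → phi5 (pr5 w) = toMatP 12 (prod12 w)
  | [], _ => by rw [pr5, prodW_nil, map_one, prod12, List.foldr_nil, toMatP_one12]
  | k :: w, h => by
    rw [List.forall_mem_cons] at h
    have ih := phi5_pr5 h.2
    rw [pr5, prod12] at ih
    rw [pr5, prodW_cons, map_mul, phi5_g5 h.1, prod12, List.foldr_cons, toMatP_mul12, ih]

/-- The element of a row. -/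
noncomputable def e5 (j : ℕ) : ↥K5 := pr5 (word5 j)

theorem phi5_e5 {j : ℕ} (hj : j < 1344) : phi5 (e5 j) = toMatP 12 (prod12 (word5 j)) :=
  phi5_pr5 fun _ hg => word5_lt hj hg

theorem step5 {j g : ℕ} (hj : j < 1344) (hg : g < 2) :
    col5 g j < 1344 ∧ phi5 (e5 (col5 g j)) = phi5 (e5 j) * phi5 (g5 g) := by
  have h := row5_all hj
  simp only [row5OK, strict_eq, Bool.and_eq_true, List.all_eq_true, List.mem_range, Nat.blt_eq] at h
  obtain ⟨h1, h2⟩ := h.2.2 g hg
  refine ⟨h1, ?_⟩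
  rw [phi5_e5 h1, phi5_e5 hj, phi5_g5 hg, ← toMatP_mul12, Nat.eq_of_beq_eq_true h2]

theorem toMatP_inj_lt {n P Q : ℕ} (h : toMatP n P = toMatP n Q) (hP : P < 2 ^ (n * n)) (hQ : Q < 2 ^ (n * n)) :
    P = Q := by
  refine Nat.eq_of_testBit_eq fun i => ?_
  by_cases hi : i < n * n
  · have hn : 0 < n := Nat.pos_of_ne_zero fun e => by simp [e] at hi
    have e := congrFun (congrFun h ⟨i / n, Nat.div_lt_of_lt_mul hi⟩) ⟨i % n, Nat.mod_lt _ hn⟩
    simp only [toMatP, bitV, Nat.div_add_mod] at e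
    cases hp : P.testBit i <;> cases hq : Q.testBit i <;> first | rfl | simp [hp, hq] at e
  · rw [Nat.testBit_lt_two_pow (hP.trans_le (Nat.pow_le_pow_right (by norm_num) (by omega))),
      Nat.testBit_lt_two_pow (hQ.trans_le (Nat.pow_le_pow_right (by norm_num) (by omega)))]

theorem prod12_lt {j : ℕ} (hj : j < 1344) : prod12 (word5 j) < 2 ^ (12 * 12) := by
  have h := row5_all hj
  simp only [row5OK, strict_eq, Bool.and_eq_true] at h
  have h' : prod12 (word5 j) >>> 144 = 0 := Nat.eq_of_beq_eq_true h.2.1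
  rw [Nat.shiftRight_eq_div_pow, Nat.div_eq_zero_iff] at h'
  exact h'.resolve_left (Nat.two_pow_pos _).ne'

theorem e5_inj {i j : ℕ} (hi : i < 1344) (hj : j < 1344) (h : phi5 (e5 i) = phi5 (e5 j)) : i = j := by
  have hlt : ∀ d a, a + d + 1 < 1344 → prod12 (word5 a) < prod12 (word5 (a + d + 1)) := by
    intro d
    induction d with
    | zero => intro a h; exact Nat.blt_eq.mp (List.all_eq_true.1 incr5_ok a (List.mem_range.2 (by omega)))
    | succ d ih =>
      intro a h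
      exact (ih a (by omega)).trans
        (Nat.blt_eq.mp (List.all_eq_true.1 incr5_ok (a + d + 1) (List.mem_range.2 (by omega))))
  rw [phi5_e5 hi, phi5_e5 hj] at h
  have he := toMatP_inj_lt h (prod12_lt hi) (prod12_lt hj)
  rcases Nat.lt_trichotomy i j with l | l | l
  · obtain ⟨d, rfl⟩ : ∃ d, j = i + d + 1 := ⟨j - i - 1, by omega⟩
    exact absurd he (hlt d i hj).ne
  · exact l
  · obtain ⟨d, rfl⟩ : ∃ d, i = j + d + 1 := ⟨i - j - 1, by omega⟩
    exact absurd he.symm (hlt d j hi).ne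

theorem run5_spec : ∀ (w : List ℕ), (∀ g ∈ w, g < 2) → ∀ {i : ℕ}, i < 1344 →
    run5 i w < 1344 ∧ phi5 (e5 (run5 i w)) = phi5 (e5 i) * phi5 (pr5 w)
  | [], _, i, hi => ⟨hi, by rw [pr5, prodW_nil, map_one, mul_one]; rfl⟩
  | g :: w, h, i, hi => by
    rw [List.forall_mem_cons] at h
    obtain ⟨h1, h2⟩ := step5 hi h.1
    obtain ⟨h3, h4⟩ := run5_spec w h.2 h1
    have e : run5 i (g :: w) = run5 (col5 g i) w := by simp only [run5, List.foldl_cons, strict_eq]
    rw [e]
    refine ⟨h3, ?_⟩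
    rw [h4, h2, pr5, pr5, prodW_cons, map_mul, mul_assoc]

theorem e5_one : phi5 (e5 one5Idx) = 1 := by rw [e5, one5_ok.2, pr5, prodW_nil, map_one]

theorem phi5_mem (a : ↥K5) : ∃ j < 1344, phi5 (e5 j) = phi5 a := by
  haveI := finite_J4
  obtain ⟨a, ha⟩ := a
  have ha' := ha
  rw [K5, ← Subgroup.mem_toSubmonoid, Subgroup.closure_toSubmonoid_of_finite] at ha'
  induction ha' using Submonoid.closure_induction_right with
  | one => exact ⟨one5Idx, one5_ok.1, by rw [e5_one]; exact (map_one phi5).symm⟩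
  | mul_right b hb c hc ih =>
    obtain ⟨k, rfl⟩ := hc
    have hbK : b ∈ K5 := by
      rw [K5, ← Subgroup.mem_toSubmonoid, Subgroup.closure_toSubmonoid_of_finite]; exact hb
    obtain ⟨j, hj, he⟩ := ih hbK
    by_cases hk : k < 2
    · exact ⟨col5 k j, (step5 hj hk).1, by rw [(step5 hj hk).2, he, ← map_mul]; rfl⟩
    · exact ⟨j, hj, by rw [show (⟨b * gE k, ha⟩ : ↥K5) = ⟨b, hbK⟩ * g5 k from rfl, map_mul, phi5_x5 hk, he, mul_one]⟩

variable (F : Num J4)

include F

theorem five_kernel : K5 = cent x5 ∧ ∀ a : ↥K5, phi5 a = 1 → (a : J4) ∈ Subgroup.zpowers x5 := by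
  haveI := finite_J4
  let ψ := phi5.toHomUnits
  have hψ : ∀ a, (ψ a : Matrix (Fin 12) (Fin 12) (ZMod 2)) = phi5 a := fun a => phi5.coe_toHomUnits a
  have hinj : ∀ i j : Fin 1344, ψ (e5 i.val) = ψ (e5 j.val) → i = j := fun i j h =>
    Fin.ext (e5_inj i.2 j.2 (by rw [← hψ, ← hψ, h]))
  have h1 : 1344 ≤ Nat.card ψ.range := by
    have := Nat.card_le_card_of_injective (fun j : Fin 1344 => (⟨ψ (e5 j.val), e5 j.val, rfl⟩ : ↥ψ.range))
      fun i j h => hinj i j (congrArg Subtype.val h)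
    rwa [Nat.card_fin] at this
  have hker : g5 2 ∈ ψ.ker := by
    rw [MonoidHom.mem_ker]
    exact Units.ext (by rw [hψ, phi5_x5 (by norm_num)]; rfl)
  have hx : ((g5 2 : ↥K5) : J4) = x5 := by simp [g5, gE]
  have ho : orderOf (g5 2) = 5 := by rw [← Subgroup.orderOf_coe, hx, x5_spec.1]
  have h5 : 5 ≤ Nat.card ψ.ker := by
    rw [← ho, ← Nat.card_zpowers]
    exact Subgroup.card_le_of_le (Subgroup.zpowers_le.2 hker)
  have hc : Nat.card ψ.ker * Nat.card ψ.range = Nat.card K5 := by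
    rw [← Subgroup.index_ker ψ, Subgroup.card_mul_index]
  have hle : Nat.card K5 ≤ 6720 := F.cent_five x5 x5_spec.1 ▸ Subgroup.card_le_of_le K5_le
  have hK : Nat.card K5 = 6720 := le_antisymm hle (by
    calc 6720 = 5 * 1344 := by norm_num
      _ ≤ Nat.card ψ.ker * Nat.card ψ.range := Nat.mul_le_mul h5 h1
      _ = _ := hc)
  refine ⟨Subgroup.eq_of_le_of_card_ge K5_le (by rw [hK, F.cent_five x5 x5_spec.1]), fun a ha => ?_⟩
  have hk5 : Nat.card ψ.ker ≤ 5 := by
    by_contra h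
    have := Nat.mul_le_mul (show 6 ≤ Nat.card ψ.ker by omega) h1
    omega
  have heq : Subgroup.zpowers (g5 2) = ψ.ker :=
    Subgroup.eq_of_le_of_card_ge (Subgroup.zpowers_le.2 hker) (by rw [Nat.card_zpowers, ho]; exact hk5)
  have hak : a ∈ ψ.ker := by
    rw [MonoidHom.mem_ker]
    exact Units.ext (by rw [hψ, ha]; rfl)
  rw [← heq, Subgroup.mem_zpowers_iff] at hak
  obtain ⟨i, rfl⟩ := hak
  exact ⟨i, by simp [← hx]⟩

end CfsgLib.JFourClasses
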