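import Cfsg.Agent.Lib.J4Rep.Mat

/-!
# Bit matrices packed into one number

A square matrix of degree `n` is the number with bit `n * i + j` at the place `i, j`. The product is a sum, over `k`,
of the column `k` of the first factor times the row `k` of the second one; the number multiplication spreads the
row without carries.
-/

set_option autoImplicit false

namespace CfsgLib.JFourClasses

open CfsgLib.J4Rep (bitV toMat)

/-- One bit at the start of each of `r` blocks of width `n`. -/
def maskR (n : ℕ) : ℕ → ℕ
  | 0 => 0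
  | r + 1 => 1 + 2 ^ n * maskR n r

/-- The matrix of a number. -/
def toMatP (n P : ℕ) : Matrix (Fin n) (Fin n) (ZMod 2) := fun i j => bitV P (n * i.val + j.val)

/-- One term of the product. -/
noncomputable def termP (n mask P Q k : ℕ) : ℕ :=
  Nat.mul (Nat.land (Nat.shiftRight P k) mask) (Nat.land (Nat.shiftRight Q (n * k)) (2 ^ n - 1))

/-- The product with a given mask. -/
noncomputable def mulWith (n mask P Q : ℕ) : ℕ :=
  Nat.rec (motive := fun _ => ℕ → ℕ) (fun acc => acc)
    (fun k ih acc => ih (Nat.xor acc (termP n mask P Q k))) n 0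

/-- The mask of degree 112. -/
def mask112 : ℕ := (2 ^ (112 * 112) - 1) / (2 ^ 112 - 1)

/-- The product of packed matrices of degree 112. -/
noncomputable def mulP (P Q : ℕ) : ℕ := mulWith 112 mask112 P Q

/-- The rows of a list in one number. -/
noncomputable def packB (n : ℕ) : List ℕ → ℕ
  | [] => 0
  | a :: A => a + 2 ^ n * packB n A

theorem mask112_eq : mask112 = maskR 112 112 := by decide +kernel

theorem bitV_block (n : ℕ) : ∀ (r s u i j : ℕ), u < 2 ^ n → i < r → j < n →
    bitV ((s &&& maskR n r) * u) (n * i + j) = bitV s (n * i) * bitV u j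
  | 0, _, _, i, _, _, hi, _ => by omega
  | r + 1, s, u, i, j, hu, hi, hj => by
    have hsplit : s &&& maskR n (r + 1) = s % 2 + 2 ^ n * ((s >>> n) &&& maskR n r) := by
      apply Nat.eq_of_testBit_eq
      intro k
      have h1 : (1 : ℕ) < 2 ^ n := Nat.one_lt_two_pow (by omega)
      have h2 : s % 2 < 2 ^ n := by omega
      rw [show maskR n (r + 1) = 1 + 2 ^ n * maskR n r from rfl, Nat.testBit_and, add_comm 1,
        Nat.testBit_two_pow_mul_add _ h1, add_comm (s % 2), Nat.testBit_two_pow_mul_add _ h2]
      by_cases hk : k < n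
      · simp only [if_pos hk]
        cases k with
        | zero => simp [Nat.testBit_zero]
        | succ k =>
          rw [Nat.testBit_succ, Nat.testBit_succ, Nat.testBit_succ,
            show s % 2 / 2 = 0 by omega, show (1 : ℕ) / 2 = 0 from rfl]
          simp
      · simp only [if_neg hk, Nat.testBit_and, Nat.testBit_shiftRight]
        rw [show n + (k - n) = k by omega]
    rw [hsplit, add_mul, mul_assoc, add_comm]
    have hlow : s % 2 * u < 2 ^ n := by
      rcases Nat.mod_two_eq_zero_or_one s with h | h <;> rw [h] <;> simp [hu]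
    unfold bitV
    rw [Nat.testBit_two_pow_mul_add _ hlow]
    cases i with
    | zero =>
      simp only [Nat.mul_zero, Nat.zero_add, if_pos hj, Nat.testBit_zero]
      rcases Nat.mod_two_eq_zero_or_one s with h | h <;> rw [h] <;> simp
    | succ i =>
      rw [if_neg (show ¬ n * (i + 1) + j < n by rw [Nat.mul_succ]; omega), show n * (i + 1) + j - n = n * i + j by rw [Nat.mul_succ]; omega]
      have h := bitV_block n r (s >>> n) u i j hu (by omega) hj
      unfold bitV at h
      rw [h, Nat.testBit_shiftRight, show n + n * i = n * (i + 1) by ring]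

theorem bitV_term {n : ℕ} (P Q : ℕ) {k : ℕ} (i j : Fin n) :
    bitV (termP n (maskR n n) P Q k) (n * i.val + j.val) = bitV P (n * i.val + k) * bitV Q (n * k + j.val) := by
  have hu : Q >>> (n * k) &&& (2 ^ n - 1) < 2 ^ n :=
    Nat.lt_of_le_of_lt Nat.and_le_right (Nat.sub_lt (Nat.two_pow_pos n) one_pos)
  show bitV ((P >>> k &&& maskR n n) * (Q >>> (n * k) &&& (2 ^ n - 1))) _ = _
  rw [bitV_block n n _ _ i.val j.val hu i.2 j.2]
  unfold bitV
  rw [Nat.testBit_shiftRight, Nat.testBit_and, Nat.testBit_shiftRight, Nat.testBit_two_pow_sub_one,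
    add_comm k, decide_eq_true j.2, Bool.and_true]

theorem bitV_acc {n : ℕ} (P Q : ℕ) (i j : Fin n) : ∀ (m acc : ℕ),
    bitV (Nat.rec (motive := fun _ => ℕ → ℕ) (fun acc => acc)
      (fun k ih acc => ih (Nat.xor acc (termP n (maskR n n) P Q k))) m acc) (n * i.val + j.val) =
      bitV acc (n * i.val + j.val) + ∑ k ∈ Finset.range m, bitV P (n * i.val + k) * bitV Q (n * k + j.val)
  | 0, acc => by simp
  | m + 1, acc => by
    show bitV (Nat.rec (motive := fun _ => ℕ → ℕ) (fun acc => acc)
      (fun k ih acc => ih (Nat.xor acc (termP n (maskR n n) P Q k))) m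
        (acc ^^^ termP n (maskR n n) P Q m)) _ = _
    rw [bitV_acc P Q i j m, J4Rep.bitV_xor, bitV_term, Finset.sum_range_succ]
    abel

theorem toMatP_mulP (P Q : ℕ) : toMatP 112 (mulP P Q) = toMatP 112 P * toMatP 112 Q := by
  ext i j
  rw [Matrix.mul_apply]
  show bitV (mulWith 112 mask112 P Q) _ = _
  rw [mask112_eq]
  refine (bitV_acc P Q i j 112 0).trans ?_
  rw [J4Rep.bitV_zero, zero_add]
  exact (Fin.sum_univ_eq_sum_range (fun k => bitV P (112 * i.val + k) * bitV Q (112 * k + j.val)) 112).symm

theorem toMatP_packB (n : ℕ) (A : List ℕ) (h : ∀ a ∈ A, a < 2 ^ n) : toMatP n (packB n A) = toMat n A := by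
  have key : ∀ (A : List ℕ), (∀ a ∈ A, a < 2 ^ n) → ∀ i j, j < n →
      bitV (packB n A) (n * i + j) = bitV (A.getD i 0) j := by
    intro A
    induction A with
    | nil => intro _ i j _; simp [packB, J4Rep.bitV_zero]
    | cons a A ih =>
      intro h i j hj
      rw [List.forall_mem_cons] at h
      unfold bitV
      rw [packB, add_comm, Nat.testBit_two_pow_mul_add _ h.1]
      cases i with
      | zero => simp [hj]
      | succ i =>
        rw [if_neg (show ¬ n * (i + 1) + j < n by rw [Nat.mul_succ]; omega), show n * (i + 1) + j - n = n * i + j by rw [Nat.mul_succ]; omega,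
          List.getD_cons_succ]
        exact ih h.2 i j hj
  ext i j
  exact key A h i.val j.val j.2

end CfsgLib.JFourClasses
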