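import Cfsg.Agent.Lib.JFourClasses.Rep

/-!
# Certified ranks
-/

set_option autoImplicit false
set_option maxRecDepth 100000

namespace CfsgLib.JFourClasses

open Cfsg CfsgLib.J4Rep CfsgLib.J4Pres Cfsg.Spor

/-- The packed projection to the first `r` coordinates. -/
noncomputable def projP (r : ℕ) : ℕ := Nat.land oneP (2 ^ (112 * r) - 1)

/-- A power of a packed matrix. -/
noncomputable def powP (S : ℕ) : ℕ → ℕ :=
  Nat.rec (motive := fun _ => ℕ) oneP fun _ R => mulP R S

/-- A certificate that a power of the sum of a matrix and the identity has rank `r`. -/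
noncomputable def rankOK (P k r : ℕ) (c : ℕ × ℕ × ℕ × ℕ) : Bool :=
  Nat.beq (mulP (mulP c.1 (powP (Nat.xor P oneP) k)) c.2.1) (projP r) &&
    Nat.beq (mulP c.2.2.1 c.1) oneP && Nat.beq (mulP c.2.1 c.2.2.2) oneP && Nat.ble r 112

theorem toMatP_xor (P Q : ℕ) : toMatP 112 (P ^^^ Q) = toMatP 112 P + toMatP 112 Q := by
  ext i j
  exact bitV_xor _ _ _

theorem toMatP_projP (r : ℕ) :
    toMatP 112 (projP r) = Matrix.diagonal fun i : Fin 112 => if i.val < r then (1 : ZMod 2) else 0 := by
  ext i j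
  have h1 := congrFun (congrFun toMatP_oneP i) j
  simp only [toMatP, bitV] at h1 ⊢
  have hb : (projP r).testBit (112 * i.val + j.val) =
      (oneP.testBit (112 * i.val + j.val) && decide (112 * i.val + j.val < 112 * r)) := by
    show (oneP &&& (2 ^ (112 * r) - 1)).testBit _ = _
    rw [Nat.testBit_and, Nat.testBit_two_pow_sub_one]
  simp only [hb, Matrix.diagonal_apply]
  rw [Matrix.one_apply] at h1
  have hj := j.2
  have hiff : (112 * i.val + j.val < 112 * r) ↔ i.val < r := by omega
  by_cases hir : i.val < r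
  · simp only [decide_eq_true (hiff.2 hir), Bool.and_true, h1]
    split <;> simp_all
  · simp only [decide_eq_false (fun h => hir (hiff.1 h)), Bool.and_false]
    split <;> simp_all

theorem toMatP_powP (S : ℕ) : ∀ k, toMatP 112 (powP S k) = toMatP 112 S ^ k
  | 0 => by rw [pow_zero]; exact toMatP_oneP
  | k + 1 => by
    show toMatP 112 (mulP (powP S k) S) = _
    rw [toMatP_mulP, toMatP_powP S k, pow_succ]

theorem rankPow_eq {a : J4} {P k r : ℕ} (ha : Has a P) {c : ℕ × ℕ × ℕ × ℕ}
    (h : rankOK P k r c = true) : rankPow a k = r := by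
  simp only [rankOK, Bool.and_eq_true, Nat.ble_eq] at h
  obtain ⟨⟨⟨h1, h2⟩, h3⟩, h4⟩ := h
  have e1 := congrArg (toMatP 112) (Nat.eq_of_beq_eq_true h1)
  have e2 := congrArg (toMatP 112) (Nat.eq_of_beq_eq_true h2)
  have e3 := congrArg (toMatP 112) (Nat.eq_of_beq_eq_true h3)
  rw [toMatP_mulP, toMatP_mulP, toMatP_projP, toMatP_powP, show ∀ u v : ℕ, Nat.xor u v = u ^^^ v from fun _ _ => rfl,
    toMatP_xor, ← ha, toMatP_oneP] at e1
  rw [toMatP_mulP, toMatP_oneP] at e2 e3
  set A := ((rho a : U112).val + 1) ^ k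
  have eA : A = toMatP 112 c.2.2.1 * (toMatP 112 c.1 * A * toMatP 112 c.2.1) * toMatP 112 c.2.2.2 := by
    rw [← mul_assoc, ← mul_assoc, e2, one_mul, mul_assoc, e3, mul_one]
  have hd : (Matrix.diagonal fun i : Fin 112 => if i.val < r then (1 : ZMod 2) else 0).rank = r := by
    rw [Matrix.rank_diagonal]
    rw [Fintype.card_subtype]
    simp only [ne_eq, ite_eq_right_iff, one_ne_zero, imp_false, not_not]
    rw [Fin.card_filter_val_lt, min_eq_right h4]
  refine le_antisymm ?_ ?_
  · show A.rank ≤ r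
    rw [eA, e1]
    exact ((Matrix.rank_mul_le_left _ _).trans (Matrix.rank_mul_le_right _ _)).trans_eq hd
  · show r ≤ A.rank
    rw [← hd, ← e1]
    exact (Matrix.rank_mul_le_left _ _).trans (Matrix.rank_mul_le_right _ _)

end CfsgLib.JFourClasses
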