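import Cfsg.Agent.Lib.JFourClasses.PMat
import Cfsg.Agent.Lib.J4Pres.CentGens
import Cfsg.Agent.Lib.J4Pres.Realise

/-!
# Words in twenty-two letters of the presented group with packed matrices
-/

set_option autoImplicit false
set_option maxRecDepth 100000

namespace CfsgLib.JFourClasses

open Cfsg CfsgLib.CosetEnum CfsgLib.Fi22Mult CfsgLib.J4Rep CfsgLib.J4Pres Cfsg.Spor

/-- The letters: the seventeen generators of the centralizer, then x, y, y⁻¹, z and t. -/
noncomputable def lett (k : ℕ) : J4 := if k < 17 then gC k else j5 (k - 17)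

/-- Their matrices. -/
noncomputable def letMat (k : ℕ) : List ℕ := bif Nat.blt k 17 then gMat k else mat5 (k - 17)

/-- The packed identity. -/
noncomputable def oneP : ℕ := packB 112 (oneB 112)

/-- The packed matrix of a letter. -/
noncomputable def letP (k : ℕ) : ℕ := packB 112 (letMat k)

/-- The packed matrix of a word. -/
noncomputable def wP (w : List ℕ) : ℕ := w.foldr (fun k M => mulP (letP k) M) oneP

/-- The element of a word. -/
noncomputable def elt (w : List ℕ) : J4 := prodW lett w

theorem letBound_ok : (List.range 23).all (fun k => (letMat k).all fun a => Nat.blt a (2 ^ 112)) = true ∧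
    (oneB 112).all (fun a => Nat.blt a (2 ^ 112)) = true := by decide +kernel

theorem toMatP_oneP : toMatP 112 oneP = 1 := by
  rw [oneP, toMatP_packB _ _ fun a ha => Nat.blt_eq.mp (List.all_eq_true.1 letBound_ok.2 a ha), toMat_oneB]

theorem letMat_spec (k : ℕ) : (rho (lett k) : U112).val = toMat 112 (letMat k) := by
  by_cases h : k < 17
  · rw [lett, if_pos h, letMat, show Nat.blt k 17 = true from Nat.blt_eq.mpr h]
    exact (gMat_spec h).2
  · rw [lett, if_neg h, letMat, show Nat.blt k 17 = false by
      rw [Bool.eq_false_iff]; exact fun e => h (Nat.blt_eq.mp e)]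
    exact (rho_j5 (k - 17)).2

theorem letP_spec (k : ℕ) : (rho (lett k) : U112).val = toMatP 112 (letP k) := by
  rw [letP, toMatP_packB _ _ fun a ha => ?_, letMat_spec]
  by_cases h : k < 23
  · exact Nat.blt_eq.mp (List.all_eq_true.1 (List.all_eq_true.1 letBound_ok.1 k (List.mem_range.2 h)) a ha)
  · have h17 : Nat.blt k 17 = false := by
      rw [Bool.eq_false_iff]; exact fun e => h (by have := Nat.blt_eq.mp e; omega)
    obtain ⟨n, rfl⟩ : ∃ n, k = 17 + (n + 5) := ⟨k - 22, by omega⟩
    rw [letMat, h17, cond_false, show 17 + (n + 5) - 17 = n + 5 by omega] at ha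
    exact Nat.blt_eq.mp (List.all_eq_true.1 letBound_ok.2 a (by simpa [mat5] using ha))

theorem wP_spec : ∀ w : List ℕ, (rho (elt w) : U112).val = toMatP 112 (wP w)
  | [] => by simp [elt, wP, toMatP_oneP]
  | k :: w => by
    have e : wP (k :: w) = mulP (letP k) (wP w) := rfl
    rw [elt, prodW_cons, map_mul, Units.val_mul, letP_spec, e, toMatP_mulP]
    congr 1
    exact wP_spec w

theorem elt_append (u v : List ℕ) : elt (u ++ v) = elt u * elt v := prodW_append _ _ _

theorem elt_nil : elt [] = 1 := rfl

theorem elt_single (k : ℕ) : elt [k] = lett k := prodW_single _ _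

/-- A packed matrix of an element. -/
def Has (a : J4) (P : ℕ) : Prop := (rho a : U112).val = toMatP 112 P

theorem has_elt (w : List ℕ) : Has (elt w) (wP w) := wP_spec w

theorem has_one : Has 1 oneP := by
  show (rho 1 : U112).val = _
  rw [toMatP_oneP, map_one]
  rfl

theorem Has.mul {a b : J4} {P Q : ℕ} (ha : Has a P) (hb : Has b Q) : Has (a * b) (mulP P Q) := by
  show (rho (a * b) : U112).val = _
  rw [map_mul, Units.val_mul, ha, hb, toMatP_mulP]

theorem Has.eq {a b : J4} {P Q : ℕ} (ha : Has a P) (hb : Has b Q) (h : Nat.beq P Q = true) : a = b :=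
  rho_injective (Units.ext (by rw [ha, hb, Nat.eq_of_beq_eq_true h]))

theorem Has.ext {a b : J4} {P : ℕ} (ha : Has a P) (hb : Has b P) : a = b :=
  ha.eq hb (Nat.beq_eq.mpr rfl)

/-- Two packed matrices differ at a place. -/
noncomputable def diffP (P Q i : ℕ) : Bool := Nat.blt i 12544 && (Nat.testBit P i != Nat.testBit Q i)

theorem Has.ne {a b : J4} {P Q : ℕ} (ha : Has a P) (hb : Has b Q) {i : ℕ} (h : diffP P Q i = true) :
    a ≠ b := by
  simp only [diffP, Bool.and_eq_true, Nat.blt_eq, bne_iff_ne, ne_eq] at h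
  rintro rfl
  have e := congrFun (congrFun (ha.symm.trans hb) ⟨i / 112, by omega⟩) ⟨i % 112, by omega⟩
  simp only [toMatP, bitV, Nat.div_add_mod] at e
  refine h.2 ?_
  cases hp : P.testBit i <;> cases hq : Q.testBit i <;> first | rfl | simp [hp, hq] at e

/-- The rank of a power of the sum of a matrix and the identity is a class invariant. -/
noncomputable def rankPow (a : J4) (k : ℕ) : ℕ := (((rho a : U112).val + 1) ^ k).rank

theorem rankPow_conj (a c : J4) (k : ℕ) : rankPow (c * a * c⁻¹) k = rankPow a k := by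
  set M := (rho a : U112).val with hM
  set U := (rho c : U112)
  have h : (rho (c * a * c⁻¹) : U112).val + 1 = U.val * (M + 1) * (U⁻¹).val := by
    rw [map_mul, map_mul, map_inv, Units.val_mul, Units.val_mul, Matrix.mul_add, Matrix.add_mul, mul_one,
      Units.mul_inv]
  have hk : (U.val * (M + 1) * (U⁻¹).val) ^ k = U.val * (M + 1) ^ k * (U⁻¹).val := Units.conj_pow U _ _
  rw [rankPow, h, hk, Matrix.rank_mul_eq_left_of_isUnit_det _ _ (Matrix.GeneralLinearGroup.det U⁻¹).isUnit,
    Matrix.rank_mul_eq_right_of_isUnit_det _ _ (Matrix.GeneralLinearGroup.det U).isUnit]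
  rfl

theorem rankPow_isConj {a b : J4} (h : IsConj a b) (k : ℕ) : rankPow a k = rankPow b k := by
  obtain ⟨c, rfl⟩ := isConj_iff.1 h
  exact (rankPow_conj a c k).symm

end CfsgLib.JFourClasses
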