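import Cfsg.Agent.Lib.JFourClasses.TwoDefs
import Cfsg.Agent.Lib.JFourClasses.TwoData
import Cfsg.Agent.Lib.JFourClasses.SylData

/-!
# Kernel checks of the elements of two power order of the Mathieu group
-/

set_option autoImplicit false
set_option Elab.async false
set_option maxRecDepth 100000
set_option maxHeartbeats 4000000

namespace CfsgLib.JFourClasses

open CfsgLib.Golay

theorem syl_pc : SylowTwo.pcOK sylGs sylCs = true ∧ sylGs.length = 10 ∧ sylGs.all inM24 = true := by decide +kernel

theorem mReps_ok : mReps.all (fun w => w.all fun g => Nat.blt g 3) = true ∧ mReps.length = 7 := by decide +kernel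

/-- The conjugating words for a part of the list. -/
noncomputable def sylPartOK (q : ℕ) (W : List (ℕ × List ℕ)) : Bool :=
  Nat.beq W.length 128 &&
    ((((SylowTwo.els sylGs).drop (128 * q)).take 128).zip W).all fun x => sylStepOK mReps (x.1, x.2)

theorem sylPart0_ok : sylPartOK 0 sylWit0 = true := by decide +kernel

theorem sylPart1_ok : sylPartOK 1 sylWit1 = true := by decide +kernel

theorem sylPart2_ok : sylPartOK 2 sylWit2 = true := by decide +kernel

theorem sylPart3_ok : sylPartOK 3 sylWit3 = true := by decide +kernel

theorem sylPart4_ok : sylPartOK 4 sylWit4 = true := by decide +kernel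

theorem sylPart5_ok : sylPartOK 5 sylWit5 = true := by decide +kernel

theorem sylPart6_ok : sylPartOK 6 sylWit6 = true := by decide +kernel

theorem sylPart7_ok : sylPartOK 7 sylWit7 = true := by decide +kernel

end CfsgLib.JFourClasses
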