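import Cfsg.Agent.Lib.JFourClasses.TwoDefs

/-!
# A small subgroup of the presented group as a table

The elements are products of generators along listed words; the table of right multiplication by a generator and
the increasing packed matrices give the whole group.
-/

set_option autoImplicit false
set_option maxRecDepth 100000

namespace CfsgLib.JFourClasses

open Cfsg CfsgLib.CosetEnum CfsgLib.J4Pres Cfsg.Spor

/-- The product of packed matrices along a word in listed generators. -/
noncomputable def genP (gp : List ℕ) (w : List ℕ) : ℕ := w.foldr (fun k M => mulP (gp.getD k oneP) M) oneP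

/-- The product of the elements along a word in listed generators. -/
noncomputable def genE (gw : List (List ℕ)) (w : List ℕ) : J4 := prodW (fun k => elt (gw.getD k [])) w

/-- The generators have the stated matrices. -/
noncomputable def gensOK (gw : List (List ℕ)) (gp : List ℕ) : Bool :=
  Nat.beq gw.length gp.length && (List.range gw.length).all fun k => Nat.beq (wP (gw.getD k [])) (gp.getD k oneP)

/-- One row of a table. -/
noncomputable def rowOK (gp : List ℕ) (T : List (List ℕ × List ℕ)) (j : ℕ) : Bool :=
  (T.getD j ([], [])).1.all (fun g => Nat.blt g gp.length) &&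
    strict (genP gp (T.getD j ([], [])).1) fun P => (List.range gp.length).all fun g =>
      Nat.blt ((T.getD j ([], [])).2.getD g 0) T.length &&
        Nat.beq (mulP P (gp.getD g oneP)) (genP gp (T.getD ((T.getD j ([], [])).2.getD g 0) ([], [])).1)

/-- The packed matrices of the rows increase. -/
noncomputable def incrOK (gp : List ℕ) (T : List (List ℕ × List ℕ)) (j : ℕ) : Bool :=
  Nat.blt (genP gp (T.getD j ([], [])).1) (genP gp (T.getD (j + 1) ([], [])).1)

/-- The index of the product of two rows. -/
def mulI (T : List (List ℕ × List ℕ)) (i j : ℕ) : ℕ :=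
  (T.getD j ([], [])).1.foldl (fun c g => (T.getD c ([], [])).2.getD g 0) i

theorem has_gen {gw : List (List ℕ)} {gp : List ℕ} (h : gensOK gw gp = true) (k : ℕ) :
    Has (elt (gw.getD k [])) (gp.getD k oneP) := by
  simp only [gensOK, Bool.and_eq_true, List.all_eq_true, List.mem_range] at h
  by_cases hlt : k < gw.length
  · rw [← Nat.eq_of_beq_eq_true (h.2 k hlt)]; exact has_elt _
  · have hl := Nat.eq_of_beq_eq_true h.1
    rw [List.getD_eq_default _ _ (by omega), List.getD_eq_default _ _ (by omega), elt_nil]
    exact has_one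

theorem has_genE {gw : List (List ℕ)} {gp : List ℕ} (h : gensOK gw gp = true) (w : List ℕ) :
    Has (genE gw w) (genP gp w) := by
  induction w with
  | nil => rw [genE, genP, prodW_nil, List.foldr_nil]; exact has_one
  | cons k w ih =>
    have hk : Has (elt (gw.getD k [])) (gp.getD k oneP) := has_gen h k
    rw [genE, genP] at ih
    rw [genE, genP, prodW_cons, List.foldr_cons]
    exact hk.mul ih

theorem genE_append (gw : List (List ℕ)) (u v : List ℕ) : genE gw (u ++ v) = genE gw u * genE gw v :=
  prodW_append _ _ _

theorem genE_single (gw : List (List ℕ)) (k : ℕ) : genE gw [k] = elt (gw.getD k []) := prodW_single _ _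

/-- Packed matrices below the bound are determined by their element. -/
theorem has_unique {a : J4} {P Q : ℕ} (ha : Has a P) (hb : Has a Q) (hP : P < 2 ^ 12544) (hQ : Q < 2 ^ 12544) :
    P = Q := by
  refine Nat.eq_of_testBit_eq fun i => ?_
  by_cases hi : i < 12544
  · have e := congrFun (congrFun (ha.symm.trans hb) ⟨i / 112, by omega⟩) ⟨i % 112, by omega⟩
    simp only [toMatP, J4Rep.bitV, Nat.div_add_mod] at e
    cases hp : P.testBit i <;> cases hq : Q.testBit i <;> first | rfl | simp [hp, hq] at e
  · rw [Nat.testBit_lt_two_pow (hP.trans_le (Nat.pow_le_pow_right (by norm_num) (by omega))),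
      Nat.testBit_lt_two_pow (hQ.trans_le (Nat.pow_le_pow_right (by norm_num) (by omega)))]

/-- A certified table. -/
structure Tab (gw : List (List ℕ)) (gp : List ℕ) (T : List (List ℕ × List ℕ)) (one : ℕ) : Prop where
  gens : gensOK gw gp = true
  rows : ∀ j < T.length, rowOK gp T j = true
  incr : ∀ j, j + 1 < T.length → incrOK gp T j = true
  one_ok : one < T.length ∧ (T.getD one ([], [])).1 = []

namespace Tab

variable {gw : List (List ℕ)} {gp : List ℕ} {T : List (List ℕ × List ℕ)} {one : ℕ} (H : Tab gw gp T one)

/-- The element of a row. -/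
noncomputable def el (_H : Tab gw gp T one) (j : ℕ) : J4 := genE gw (T.getD j ([], [])).1

include H

theorem el_one : H.el one = 1 := by rw [el, H.one_ok.2]; rfl

theorem word_lt {j g : ℕ} (hj : j < T.length) (hg : g ∈ (T.getD j ([], [])).1) : g < gw.length := by
  have h := H.rows j hj
  simp only [rowOK, Bool.and_eq_true, List.all_eq_true, Nat.blt_eq] at h
  have hl := H.gens
  simp only [gensOK, Bool.and_eq_true] at hl
  rw [Nat.eq_of_beq_eq_true hl.1]
  exact h.1 g hg

theorem step {j g : ℕ} (hj : j < T.length) (hg : g < gw.length) :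
    (T.getD j ([], [])).2.getD g 0 < T.length ∧
      H.el ((T.getD j ([], [])).2.getD g 0) = H.el j * elt (gw.getD g []) := by
  have h := H.rows j hj
  simp only [rowOK, strict_eq, Bool.and_eq_true, List.all_eq_true, List.mem_range, Nat.blt_eq] at h
  have hl := H.gens
  simp only [gensOK, Bool.and_eq_true] at hl
  have hg' : g < gp.length := by rw [← Nat.eq_of_beq_eq_true hl.1]; exact hg
  obtain ⟨h1, h2⟩ := h.2 g hg'
  refine ⟨h1, (Has.eq ((has_genE H.gens _).mul ?_) (has_genE H.gens _) h2).symm⟩
  exact has_gen H.gens g

theorem el_mem {j : ℕ} : H.el j ∈ Subgroup.closure {a | ∃ g < gw.length, elt (gw.getD g []) = a} ∨ ¬ j < T.length := by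
  by_cases hj : j < T.length
  · left
    have key : ∀ w : List ℕ, (∀ g ∈ w, g < gw.length) →
        genE gw w ∈ Subgroup.closure {a | ∃ g < gw.length, elt (gw.getD g []) = a} := by
      intro w
      induction w with
      | nil => intro _; exact one_mem _
      | cons k w ih =>
        intro h
        rw [List.forall_mem_cons] at h
        rw [genE, prodW_cons]
        exact mul_mem (Subgroup.subset_closure ⟨k, h.1, rfl⟩) (ih h.2)
    exact key _ fun g hg => H.word_lt hj hg
  · exact Or.inr hj

theorem el_inj {i j : ℕ} (hi : i < T.length) (hj : j < T.length) (h : H.el i = H.el j)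
    (hb : ∀ k < T.length, genP gp (T.getD k ([], [])).1 < 2 ^ 12544) : i = j := by
  have hlt : ∀ d i, i + d + 1 < T.length →
      genP gp (T.getD i ([], [])).1 < genP gp (T.getD (i + d + 1) ([], [])).1 := by
    intro d
    induction d with
    | zero => intro i h; exact Nat.blt_eq.mp (H.incr i h)
    | succ d ih => intro i h; exact (ih i (by omega)).trans (Nat.blt_eq.mp (H.incr (i + d + 1) h))
  have hne : ∀ a b, a < b → b < T.length → H.el a ≠ H.el b := by
    intro a b hab hb' he
    obtain ⟨d, rfl⟩ : ∃ d, b = a + d + 1 := ⟨b - a - 1, by omega⟩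
    have h2 : Has (H.el (a + d + 1)) (genP gp (T.getD (a + d + 1) ([], [])).1) := has_genE H.gens _
    rw [← he] at h2
    exact (hlt d a hb').ne (has_unique (has_genE H.gens _) h2 (hb a (by omega)) (hb _ hb'))
  rcases Nat.lt_trichotomy i j with l | l | l
  exacts [absurd h (hne i j l hj), l, absurd h.symm (hne j i l hi)]

theorem el_mulI {i : ℕ} (hi : i < T.length) : ∀ {j : ℕ}, j < T.length →
    mulI T i j < T.length ∧ H.el (mulI T i j) = H.el i * H.el j := by
  intro j hj
  have key : ∀ (w : List ℕ) (c : ℕ), c < T.length → (∀ g ∈ w, g < gw.length) →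
      w.foldl (fun c g => (T.getD c ([], [])).2.getD g 0) c < T.length ∧
        H.el (w.foldl (fun c g => (T.getD c ([], [])).2.getD g 0) c) = H.el c * genE gw w := by
    intro w
    induction w with
    | nil => intro c hc _; exact ⟨hc, by simp [genE]⟩
    | cons g w ih =>
      intro c hc h
      rw [List.forall_mem_cons] at h
      obtain ⟨h1, h2⟩ := H.step hc h.1
      obtain ⟨h3, h4⟩ := ih _ h1 h.2
      refine ⟨h3, ?_⟩
      rw [List.foldl_cons, h4, h2, mul_assoc]
      congr 1
  exact key _ i hi fun g hg => H.word_lt hj hg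

/-- The generated subgroup is the set of rows. -/
theorem closure_spec : ∀ a ∈ Subgroup.closure {a | ∃ g < gw.length, elt (gw.getD g []) = a},
    ∃ j < T.length, H.el j = a := by
  haveI := finite_J4
  intro a ha
  rw [← Subgroup.mem_toSubmonoid, Subgroup.closure_toSubmonoid_of_finite] at ha
  induction ha using Submonoid.closure_induction_right with
  | one => exact ⟨one, H.one_ok.1, H.el_one⟩
  | mul_right x _ y hy ih =>
    obtain ⟨j, hj, rfl⟩ := ih
    obtain ⟨g, hg, rfl⟩ := hy
    exact ⟨_, (H.step hj hg).1, (H.step hj hg).2⟩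

theorem card_closure (hb : ∀ k < T.length, genP gp (T.getD k ([], [])).1 < 2 ^ 12544) :
    Nat.card ↥(Subgroup.closure {a | ∃ g < gw.length, elt (gw.getD g []) = a}) = T.length := by
  let f : Fin T.length → ↥(Subgroup.closure {a | ∃ g < gw.length, elt (gw.getD g []) = a}) := fun j =>
    ⟨H.el j.val, H.el_mem.resolve_right (not_not.2 j.2)⟩
  have hf : Function.Bijective f := ⟨fun i j h => Fin.ext (H.el_inj i.2 j.2 (congrArg Subtype.val h) hb), fun a => by
    obtain ⟨j, hj, he⟩ := H.closure_spec a a.2
    exact ⟨⟨j, hj⟩, Subtype.ext he⟩⟩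
  rw [← Nat.card_congr (Equiv.ofBijective f hf), Nat.card_fin]

end Tab

end CfsgLib.JFourClasses
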