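import Cfsg.Agent.Lib.JFourClasses.TableUse
import Cfsg.Agent.Lib.JFourClasses.ThreeData

/-!
# Kernel checks of the Sylow two-subgroup of the centralizer of an element of order three
-/

set_option autoImplicit false
set_option Elab.async false
set_option maxRecDepth 100000
set_option maxHeartbeats 4000000

namespace CfsgLib.JFourClasses

theorem sg3_ok : gensOK sg3W sg3P = true := by decide +kernel

theorem cg3_ok : gensOK cg3W cg3P = true := by decide +kernel

theorem comm3_ok : commOK sg3P (wP x3W) = true ∧ commOK cg3P (wP x3W) = true := by decide +kernel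

theorem rows3a_ok : ((List.range 128).all fun j => rowOK sg3P tab3 j) = true := by decide +kernel

theorem rows3b_ok : ((List.range 128).all fun j => rowOK sg3P tab3 (128 + j)) = true := by decide +kernel

theorem incr3_ok : ((List.range 255).all fun j => incrOK sg3P tab3 j) = true := by decide +kernel

theorem bnd3_ok : ((List.range 256).all fun j => bndOK sg3P tab3 j) = true := by decide +kernel

theorem len3_ok : tab3.length = 256 ∧ one3Idx < 256 ∧ (tab3.getD one3Idx ([], [])).1 = [] ∧ lab3.length = 256 ∧
    reps3.length = 9 ∧ z3Idx < 256 := by decide +kernel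

/-- The conjugating words of a part. -/
noncomputable def witPartOK (q : ℕ) (W : List (List ℕ)) : Bool :=
  (List.range 64).all fun i => Nat.blt (lab3.getD (64 * q + i) 9) 9 &&
    witOK cg3P (W.getD i []) (genP sg3P (tab3.getD (64 * q + i) ([], [])).1)
      (genP sg3P (tab3.getD (reps3.getD (lab3.getD (64 * q + i) 9) 0) ([], [])).1)

theorem wit3a_ok : witPartOK 0 wit3_0 = true := by decide +kernel

theorem wit3b_ok : witPartOK 1 wit3_1 = true := by decide +kernel

theorem wit3c_ok : witPartOK 2 wit3_2 = true := by decide +kernel

theorem wit3d_ok : witPartOK 3 wit3_3 = true := by decide +kernel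

end CfsgLib.JFourClasses
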