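import Cfsg.Agent.Lib.JFourClasses.ThreeCheck
import Cfsg.Agent.Lib.JFourClasses.ThreeCols

/-!
# Kernel checks on indices and ranks for the elements of order three
-/

set_option autoImplicit false
set_option Elab.async false
set_option maxRecDepth 100000
set_option maxHeartbeats 4000000

namespace CfsgLib.JFourClasses

open CfsgLib.CosetEnum

/-- An entry of a column. -/
noncomputable def colI (g j : ℕ) : ℕ := Nat.land (Nat.shiftRight (cols3.getD g 0) (8 * j)) 255

/-- A packed label. -/
noncomputable def labI (j : ℕ) : ℕ := Nat.land (Nat.shiftRight labN3 (4 * j)) 15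

/-- The product along a word by the columns. -/
noncomputable def runI (i : ℕ) (w : List ℕ) : ℕ := w.foldl (fun c g => strict c fun c' => colI g c') i

theorem cols_agree : ((List.range 256).all fun j =>
    Nat.beq (lab3.getD j 9) (labI j) && (List.range sg3P.length).all fun g =>
      Nat.beq ((tab3.getD j ([], [])).2.getD g 0) (colI g j)) = true := by decide +kernel

/-- No row of a paired label is conjugate in the table to its translate by the central involution. -/
noncomputable def pairStep (s : ℕ) : Bool :=
  if labI s = 6 ∨ labI s = 7 then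
    strict (runI s (tab3.getD z3Idx ([], [])).1) fun u =>
      (List.range 256).all fun t =>
        !(Nat.beq (runI t (tab3.getD s ([], [])).1) (runI u (tab3.getD t ([], [])).1))
  else true

theorem pairs3_ok : (List.range 256).all pairStep = true := by decide +kernel

theorem central3_ok : ((List.range 256).all fun i => !(Nat.beq (labI i) 8) || Nat.beq i z3Idx) = true ∧
    labI z3Idx = 8 ∧ lab3.getD z3Idx 9 = 8 := by decide +kernel

/-- The certified ranks of a representative. -/
noncomputable def rank3OK (c : ℕ) (cs : List (ℕ × ℕ × ℕ × ℕ)) : Bool :=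
  strict (genP sg3P (tab3.getD (reps3.getD c 0) ([], [])).1) fun Y =>
    rankOK (mulP (wP x3W) Y) 1 ((ranks3.getD c []).getD 0 0) (cs.getD 0 (0, 0, 0, 0)) &&
    rankOK Y 1 ((ranks3.getD c []).getD 1 0) (cs.getD 1 (0, 0, 0, 0)) &&
    rankOK Y 3 ((ranks3.getD c []).getD 2 0) (cs.getD 2 (0, 0, 0, 0))

theorem rank3_0 : rank3OK 0 cert3_0 = true := by decide +kernel
theorem rank3_1 : rank3OK 1 cert3_1 = true := by decide +kernel
theorem rank3_2 : rank3OK 2 cert3_2 = true := by decide +kernel
theorem rank3_3 : rank3OK 3 cert3_3 = true := by decide +kernel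
theorem rank3_4 : rank3OK 4 cert3_4 = true := by decide +kernel
theorem rank3_5 : rank3OK 5 cert3_5 = true := by decide +kernel
theorem rank3_6 : rank3OK 6 cert3_6 = true := by decide +kernel
theorem rank3_7 : rank3OK 7 cert3_7 = true := by decide +kernel
theorem rank3_8 : rank3OK 8 cert3_8 = true := by decide +kernel

theorem ranks3_sep : ∀ a < 9, ∀ b < 9, ranks3.getD a [] = ranks3.getD b [] →
    a = b ∨ (a = 6 ∧ b = 7) ∨ (a = 7 ∧ b = 6) := by decide +kernel

theorem reps3_lt : ∀ c < 9, reps3.getD c 0 < 256 ∧ labI (reps3.getD c 0) = c := by decide +kernel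

theorem zrep3 : reps3.getD 8 0 = z3Idx := by decide +kernel

theorem pairz3 : labI (runI (reps3.getD 6 0) (tab3.getD z3Idx ([], [])).1) = 7 := by decide +kernel

/-- Some generator does not commute with the packed matrix of a row. -/
noncomputable def moved3 (j : ℕ) : Bool :=
  strict (genP sg3P (tab3.getD j ([], [])).1) fun P => cg3P.any fun g =>
    strict (mulP g P) fun A => strict (mulP P g) fun B => !(Nat.beq A B) &&
      Nat.beq (Nat.shiftRight A 12544) 0 && Nat.beq (Nat.shiftRight B 12544) 0

theorem moved3_ok : ((List.range 256).all fun j =>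
    Nat.beq j one3Idx || Nat.beq j z3Idx || moved3 j) = true := by decide +kernel

end CfsgLib.JFourClasses
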