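import Cfsg.Agent.Lib.JFourClasses.Facts

/-!
# The numerical facts pass along an isomorphism
-/

set_option autoImplicit false
set_option linter.style.haveILetI false

namespace CfsgLib.JFourClasses

open CfsgLib.JFourPrime

variable {G H : Type*} [Group G] [Group H] (e : G ≃* H)

theorem cent_map (s : G) : (cent s).map e.toMonoidHom = cent (e s) := by
  ext y
  rw [Subgroup.mem_map_equiv, mem_cent, mem_cent]
  constructor
  · intro h; simpa using congrArg e h
  · intro h; simpa using congrArg e.symm h

theorem card_cent_equiv (s : G) : Nat.card (cent (e s)) = Nat.card (cent s) := by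
  rw [← cent_map, Subgroup.card_map_of_injective e.injective]

theorem card_norm_equiv (s : G) : Nat.card (norm (e s)) = Nat.card (norm s) := by
  have h : norm (e s) = (norm s).map e.toMonoidHom := by
    show Subgroup.normalizer _ = (Subgroup.normalizer _).map _
    rw [Subgroup.map_normalizer_eq_of_bijective _ e.bijective, MonoidHom.map_zpowers]
    rfl
  rw [h, Subgroup.card_map_of_injective e.injective]

theorem isConj_equiv {a b : G} : IsConj (e a) (e b) ↔ IsConj a b := by
  constructor
  · intro h; simpa using e.symm.toMonoidHom.map_isConj h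
  · intro h; exact e.toMonoidHom.map_isConj h

theorem Num.map (e : G ≃* H) (F : Num G) : Num H := by
  have hs : ∀ s : H, s = e (e.symm s) := fun s => (e.apply_symm_apply s).symm
  have ho : ∀ (s : H) {n : ℕ}, orderOf s = n → orderOf (e.symm s) = n := fun s n h =>
    (e.symm.orderOf_eq s).trans h
  refine ⟨(Nat.card_congr e.toEquiv).symm.trans F.card, fun x y hx hy => ?_, fun g hg => F.no_nine _ (ho g hg),
    fun g hg => F.no_121 _ (ho g hg), fun s h => ?_, fun s h => ?_, fun s h => ?_, fun s h => ?_, fun s h => ?_,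
    fun pe hpe y hy => ?_, ?_⟩
  · rw [hs x, hs y]; exact (isConj_equiv e).2 (F.three _ _ (ho x hx) (ho y hy))
  · rw [hs s, card_cent_equiv]; exact F.cent_three _ (ho s h)
  · obtain ⟨i, hi, hc⟩ := F.cent_three_inv _ (ho s h)
    refine ⟨e i, (e.orderOf_eq i).trans hi, fun c hcs => ?_⟩
    rw [hs s, ← cent_map] at hcs
    obtain ⟨d, hd, rfl⟩ := hcs
    exact (hc d hd).map e.toMonoidHom
  · rw [hs s, card_cent_equiv]; exact F.cent_five _ (ho s h)
  · rw [hs s, card_norm_equiv]; exact F.norm_five _ (ho s h)
  · obtain ⟨h1, h2, I, hI, hbot, hsup, ⟨f⟩⟩ := F.cent_seven _ (ho s h)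
    have hz : (Subgroup.zpowers (e.symm s)).map e.toMonoidHom = Subgroup.zpowers s := by
      rw [MonoidHom.map_zpowers]; simp
    refine ⟨by rw [hs s, card_cent_equiv]; exact h1, by rw [hs s, card_norm_equiv]; exact h2,
      I.map e.toMonoidHom, ?_, ?_, ?_, ⟨(I.equivMapOfInjective _ e.injective).symm.trans f⟩⟩
    · rw [hs s, ← cent_map]; exact Subgroup.map_mono hI
    · rw [← hz, ← Subgroup.map_inf _ _ _ e.injective, hbot, Subgroup.map_bot]
    · rw [← hz, ← Subgroup.map_sup, hsup, cent_map, ← hs]
  · rw [hs y, card_cent_equiv, card_norm_equiv]; exact F.big pe hpe _ (ho y hy)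
  · obtain ⟨a, b, ha, hb, hab, hall, hca, hcb, hcb2, O, hOle, hOc, hOn⟩ := F.eleven
    refine ⟨e a, e b, (e.orderOf_eq a).trans ha, (e.orderOf_eq b).trans hb, fun h => hab ((isConj_equiv e).1 h),
      fun w hw => ?_, by rw [card_cent_equiv]; exact hca, by rw [card_cent_equiv]; exact hcb,
      by rw [card_cent_equiv]; exact hcb2, O.map e.toMonoidHom, by rw [← cent_map]; exact Subgroup.map_mono hOle,
      by rw [Subgroup.card_map_of_injective e.injective]; exact hOc, ?_⟩
    · rw [hs w, isConj_equiv, isConj_equiv]; exact hall _ (ho w hw)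
    · rw [← cent_map]
      rintro _ ⟨g, hg, rfl⟩ _ ⟨o, hoo, rfl⟩
      exact ⟨g * o * g⁻¹, hOn g hg o hoo, by simp⟩

end CfsgLib.JFourClasses
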