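import Cfsg.Agent.Lib.JFourClasses.TwoFinal
import Cfsg.Agent.Lib.JFourClasses.Three
import Cfsg.Agent.Lib.JFourClasses.Five
import Cfsg.Agent.Lib.JFourClasses.Eleven
import Cfsg.Agent.Lib.JFourClasses.Cyclic
import Cfsg.Agent.Lib.JFourClasses.Transfer

/-!
# Sixty-two classes
-/

set_option autoImplicit false
set_option maxRecDepth 100000
set_option linter.style.haveILetI false

namespace CfsgLib.JFourClasses

open Cfsg CfsgLib.J4Pres Cfsg.Spor CfsgLib.JFourPrime

variable {G : Type*} [Group G]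

/-- The elements whose order has no prime over `p`. -/
def smallSet (G : Type*) [Group G] (p : ℕ) : Set G := {g | Small p g}

theorem ncls_small_step [Finite G] {p p' : ℕ} (hp : p.Prime) (hpp : p' < p)
    (h : ∀ q : ℕ, q.Prime → q ∣ Nat.card G → q ≤ p → q ≤ p' ∨ q = p) :
    ncls (smallSet G p) = ncls (topSet G p) + ncls (smallSet G p') := by
  have hu : smallSet G p = topSet G p ∪ smallSet G p' := by
    ext g
    constructor
    · intro hg
      by_cases hd : p ∣ orderOf g
      · exact Or.inl ⟨hd, hg⟩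
      · refine Or.inr fun q hq hqd => ?_
        rcases h q hq (hqd.trans (orderOf_dvd_natCard g)) (hg q hq hqd) with h' | rfl
        exacts [h', absurd hqd hd]
    · rintro (hg | hg)
      exacts [hg.2, fun q hq hqd => (hg q hq hqd).trans hpp.le]
  rw [hu, ncls_union (Set.disjoint_left.2 fun g (h1 : g ∈ topSet G p) (h2 : g ∈ smallSet G p') =>
    absurd (h2 p hp h1.1) (not_le.2 hpp))]
  intro a b hab ha
  exact ⟨orderOf_of_isConj hab ▸ ha.1, orderOf_of_isConj hab ▸ ha.2⟩

theorem prime_dvd_order {q : ℕ} (hq : q.Prime) (h : q ∣ 86775571046077562880) :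
    q = 2 ∨ q = 3 ∨ q = 5 ∨ q = 7 ∨ q = 11 ∨ q = 23 ∨ q = 29 ∨ q = 31 ∨ q = 37 ∨ q = 43 := by
  rw [show (86775571046077562880 : ℕ) = 2 ^ 21 * 3 ^ 3 * 5 * 7 * 11 ^ 3 * 23 * 29 * 31 * 37 * 43 by norm_num] at h
  have hb : ∀ r : ℕ, r.Prime → q ∣ r → q = r := fun r hr hd => (Nat.prime_dvd_prime_iff_eq hq hr).1 hd
  simp only [hq.dvd_mul] at h
  rcases h with ((((((((h | h) | h) | h) | h) | h) | h) | h) | h) | h
  · exact Or.inl (hb 2 Nat.prime_two (hq.dvd_of_dvd_pow h))
  · exact Or.inr (Or.inl (hb 3 Nat.prime_three (hq.dvd_of_dvd_pow h)))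
  all_goals first
    | (have := hb _ (by norm_num) h; omega)
    | (have := hb _ (by norm_num) (hq.dvd_of_dvd_pow h); omega)

theorem smallSet_two [Finite G] : smallSet G 2 = {g : G | ∃ n, orderOf g = 2 ^ n} := by
  ext g
  refine ⟨fun hg => ⟨_, Nat.eq_prime_pow_of_unique_prime_dvd (orderOf_pos g).ne' fun {q} hq hqd =>
    le_antisymm (hg q hq hqd) hq.two_le⟩, ?_⟩
  rintro ⟨n, hn⟩ q hq hqd
  rw [hn] at hqd
  exact Nat.le_of_dvd two_pos (hq.dvd_of_dvd_pow hqd)

variable [Finite G] (F : Num G)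

include F

theorem exists_order {p : ℕ} (hp : p.Prime) (h : p ∣ 86775571046077562880) : ∃ x : G, orderOf x = p :=
  haveI := Fact.mk hp
  exists_prime_orderOf_dvd_card' p (F.card.symm ▸ h)

theorem not_sq {p : ℕ} (h : ¬ p ^ 2 ∣ 86775571046077562880) : ¬ p ^ 2 ∣ Nat.card G := F.card.symm ▸ h

theorem ncls_big {p e k : ℕ} (hmem : (p, e) ∈ [(23, 22), (29, 28), (31, 10), (37, 12), (43, 14)]) (hp : p.Prime)
    (hd : p ∣ 86775571046077562880) (hsq : ¬ p ^ 2 ∣ 86775571046077562880) (hk : k * e = p - 1) (he : 0 < e) :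
    ncls (topSet G p) = k := by
  haveI := Fact.mk hp
  obtain ⟨x, hx⟩ := exists_order F hp hd
  obtain ⟨hc, hn⟩ := F.big (p, e) hmem x hx
  rw [ncls_cyclic hp (not_sq F hsq) hx (by rw [hn, hc]) hk he (n := 1) fun u hu => ?_, mul_one]
  obtain ⟨hcu, -⟩ := F.big (p, e) hmem u hu
  have hle : Subgroup.zpowers u ≤ cent u := Subgroup.zpowers_le.2 (mem_cent.2 rfl)
  refine ⟨centRepsCompl (O := Subgroup.zpowers u) (H := ⊥) hu hle bot_le
    (IsPGroup.of_card (n := 1) (by rw [Nat.card_zpowers, hu, pow_one])) ?_ ?_ ?_ ?_ ?_⟩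
  · intro g hg o ho
    obtain ⟨i, rfl⟩ := Subgroup.mem_zpowers_iff.1 ho
    rw [((show Commute g u from mem_cent.1 hg).zpow_right i).eq, mul_inv_cancel_right]
    exact ⟨i, rfl⟩
  · rw [Subgroup.card_bot, one_mul, Nat.card_zpowers, hu, hcu]
  · rw [Subgroup.card_bot]; exact Nat.coprime_one_left p
  · intro h hh q hq hqd
    rw [Subgroup.mem_bot] at hh
    rw [hh, orderOf_one, Nat.dvd_one] at hqd
    exact absurd hqd hq.ne_one
  · exact
      { rep := fun _ => 1
        mem := fun _ => one_mem _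
        apart := fun i j _ _ _ => Subsingleton.elim i j
        cover := fun h hh => ⟨0, 1, one_mem _, by rw [Subgroup.mem_bot] at hh; simp [hh]⟩ }

theorem ncls_seven : ncls (topSet G 7) = 14 := by
  haveI := Fact.mk (show Nat.Prime 7 by norm_num)
  obtain ⟨x, hx⟩ := exists_order F (p := 7) (by norm_num) (by norm_num)
  obtain ⟨hc, hn, -⟩ := F.cent_seven x hx
  rw [ncls_cyclic (e := 3) (k := 2) (n := 7) (by norm_num) (not_sq F (by norm_num)) hx (by rw [hn, hc]) (by norm_num)
    (by norm_num) fun u hu => ?_]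
  obtain ⟨hcu, -, I, hI, hbot, -, ⟨f⟩⟩ := F.cent_seven u hu
  have hI120 : Nat.card I = 120 := by
    rw [Nat.card_congr f.toEquiv, Nat.card_perm, Nat.card_fin]; decide
  have hle : Subgroup.zpowers u ≤ cent u := Subgroup.zpowers_le.2 (mem_cent.2 rfl)
  refine ⟨centRepsCompl (O := Subgroup.zpowers u) (H := I) hu hle hI
    (IsPGroup.of_card (n := 1) (by rw [Nat.card_zpowers, hu, pow_one])) ?_ ?_ ?_ ?_ ?_⟩
  · intro g hg o ho
    obtain ⟨i, rfl⟩ := Subgroup.mem_zpowers_iff.1 ho
    rw [((show Commute g u from mem_cent.1 hg).zpow_right i).eq, mul_inv_cancel_right]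
    exact ⟨i, rfl⟩
  · rw [hI120, Nat.card_zpowers, hu, hcu]
  · rw [hI120]; norm_num
  · intro h hh q hq hqd
    have h120 := hqd.trans (hI120 ▸ (Subgroup.orderOf_mk h hh ▸ orderOf_dvd_natCard (⟨h, hh⟩ : ↥I)))
    rw [show 120 = 2 ^ 3 * 3 * 5 by norm_num, hq.dvd_mul, hq.dvd_mul] at h120
    rcases h120 with (h | h) | h
    · exact (Nat.le_of_dvd two_pos (hq.dvd_of_dvd_pow h)).trans (by norm_num)
    · exact (Nat.le_of_dvd (by norm_num) h).trans (by norm_num)
    · exact (Nat.le_of_dvd (by norm_num) h).trans (by norm_num)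
  · refine SubReps.ofCard I ?_
    rw [← card_conjClasses_perm_five]
    exact Nat.card_congr (Quotient.congr f.toEquiv fun a b => (isConj_equiv f).symm)

theorem five_conj (u v : G) (hu : orderOf u = 5) (hv : orderOf v = 5) : IsConj u v := by
  have h := card_classes_prime (p := 5) (e := 4) (by norm_num) (not_sq F (by norm_num)) hu
    (by rw [F.norm_five u hu, F.cent_five u hu])
  have h1 : (ConjClasses.mk '' ordSet G 5).ncard = 1 := by
    have : ncls (ordSet G 5) = 1 := by omega
    exact this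
  obtain ⟨c, hc⟩ := Set.ncard_eq_one.1 h1
  exact ConjClasses.mk_eq_mk_iff_isConj.1
    ((hc.le ⟨u, hu, rfl⟩ : ConjClasses.mk u = c).trans (hc.le ⟨v, hv, rfl⟩ : ConjClasses.mk v = c).symm)

omit F in
theorem ncls_presented (F : Num J4) : Nat.card (ConjClasses J4) = 62 := by
  haveI := finite_J4
  have hp : ∀ q : ℕ, q.Prime → q ∣ Nat.card J4 → q = 2 ∨ q = 3 ∨ q = 5 ∨ q = 7 ∨ q = 11 ∨ q = 23 ∨ q = 29 ∨
      q = 31 ∨ q = 37 ∨ q = 43 := fun q hq h => prime_dvd_order hq (F.card ▸ h)
  have huniv : (Set.univ : Set J4) = smallSet J4 43 := by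
    refine (Set.eq_univ_of_forall fun g q hq hqd => ?_).symm
    have := hp q hq (hqd.trans (orderOf_dvd_natCard g))
    omega
  have hst : ∀ p p' : ℕ, p.Prime → p' < p → (∀ r ∈ [2, 3, 5, 7, 11, 23, 29, 31, 37, 43], r ≤ p → r ≤ p' ∨ r = p) →
      ncls (smallSet J4 p) = ncls (topSet J4 p) + ncls (smallSet J4 p') := fun p p' hpr hlt hall =>
    ncls_small_step hpr hlt fun q hq hqd hle => hall q (by simpa using hp q hq hqd) hle
  rw [← ncls_univ, huniv, hst 43 37 (by norm_num) (by norm_num) (by decide), hst 37 31 (by norm_num) (by norm_num) (by decide),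
    hst 31 29 (by norm_num) (by norm_num) (by decide), hst 29 23 (by norm_num) (by norm_num) (by decide),
    hst 23 11 (by norm_num) (by norm_num) (by decide), hst 11 7 (by norm_num) (by norm_num) (by decide),
    hst 7 5 (by norm_num) (by norm_num) (by decide), hst 5 3 (by norm_num) (by norm_num) (by decide),
    hst 3 2 (by norm_num) (by norm_num) (by decide), smallSet_two, twoRepsJ.ncls_eq, ncls_three F,
    ncls_five F (not_sq_dvd_order (not_sq F (by norm_num))) (fun u hu => five_conj F u x5 hu x5_spec.1),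
    ncls_seven F, ncls_eleven F,
    ncls_big F (p := 43) (e := 14) (k := 3) (by simp) (by norm_num) (by norm_num) (by norm_num) (by norm_num) (by norm_num),
    ncls_big F (p := 37) (e := 12) (k := 3) (by simp) (by norm_num) (by norm_num) (by norm_num) (by norm_num) (by norm_num),
    ncls_big F (p := 31) (e := 10) (k := 3) (by simp) (by norm_num) (by norm_num) (by norm_num) (by norm_num) (by norm_num),
    ncls_big F (p := 29) (e := 28) (k := 1) (by simp) (by norm_num) (by norm_num) (by norm_num) (by norm_num) (by norm_num),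
    ncls_big F (p := 23) (e := 22) (k := 1) (by simp) (by norm_num) (by norm_num) (by norm_num) (by norm_num) (by norm_num)]

end CfsgLib.JFourClasses
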