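import Cfsg.Agent.Lib.JFourClasses.TwoDefs
import Cfsg.Agent.Lib.JFourClasses.TwoData

/-!
# Kernel checks of the moves and the steps
-/

set_option autoImplicit false
set_option Elab.async false
set_option maxRecDepth 100000
set_option maxHeartbeats 4000000

namespace CfsgLib.JFourClasses

theorem mvs0_ok : mvs0.all (moveOK (mReps.getD 0 [])) = true := by decide +kernel

theorem links0_ok : (List.range 2048).all (linkOK mvs0 tb0 (roots0.map Prod.fst)) = true := by decide +kernel

theorem mvs1_ok : mvs1.all (moveOK (mReps.getD 1 [])) = true := by decide +kernel

theorem links1_ok : (List.range 2048).all (linkOK mvs1 tb1 (roots1.map Prod.fst)) = true := by decide +kernel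

theorem mvs2_ok : mvs2.all (moveOK (mReps.getD 2 [])) = true := by decide +kernel

theorem links2_ok : (List.range 2048).all (linkOK mvs2 tb2 (roots2.map Prod.fst)) = true := by decide +kernel

theorem mvs3_ok : mvs3.all (moveOK (mReps.getD 3 [])) = true := by decide +kernel

theorem links3_ok : (List.range 2048).all (linkOK mvs3 tb3 (roots3.map Prod.fst)) = true := by decide +kernel

theorem mvs4_ok : mvs4.all (moveOK (mReps.getD 4 [])) = true := by decide +kernel

theorem links4_ok : (List.range 2048).all (linkOK mvs4 tb4 (roots4.map Prod.fst)) = true := by decide +kernel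

theorem mvs5_ok : mvs5.all (moveOK (mReps.getD 5 [])) = true := by decide +kernel

theorem links5_ok : (List.range 2048).all (linkOK mvs5 tb5 (roots5.map Prod.fst)) = true := by decide +kernel

theorem mvs6_ok : mvs6.all (moveOK (mReps.getD 6 [])) = true := by decide +kernel

theorem links6_ok : (List.range 2048).all (linkOK mvs6 tb6 (roots6.map Prod.fst)) = true := by decide +kernel

end CfsgLib.JFourClasses
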