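import Cfsg.Agent.Lib.JFourClasses.TwoDefs
import Cfsg.Agent.Lib.JFourClasses.TwoData
import Cfsg.Agent.Lib.JFourClasses.TwoRankData

/-!
# Kernel checks of the ranks
-/

set_option autoImplicit false
set_option Elab.async false
set_option maxRecDepth 100000
set_option maxHeartbeats 4000000

namespace CfsgLib.JFourClasses

/-- The four exponents. -/
def rankExps : List ℕ := [1, 2, 3, 6]

/-- The certificates of a representative agree with the table. -/
noncomputable def rankRowOK (i : ℕ) (cs : List (ℕ × ℕ × ℕ × ℕ)) : Bool :=
  (List.range 4).all fun j => rankOK (wP (twoReps.getD i [])) (rankExps.getD j 0)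
    ((twoRanks.getD i []).getD j 0) (cs.getD j (0, 0, 0, 0))

theorem twoRank0_ok : rankRowOK 0 twoCert0 = true := by decide +kernel

theorem twoRank1_ok : rankRowOK 1 twoCert1 = true := by decide +kernel

theorem twoRank2_ok : rankRowOK 2 twoCert2 = true := by decide +kernel

theorem twoRank3_ok : rankRowOK 3 twoCert3 = true := by decide +kernel

theorem twoRank4_ok : rankRowOK 4 twoCert4 = true := by decide +kernel

theorem twoRank5_ok : rankRowOK 5 twoCert5 = true := by decide +kernel

theorem twoRank6_ok : rankRowOK 6 twoCert6 = true := by decide +kernel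

theorem twoRank7_ok : rankRowOK 7 twoCert7 = true := by decide +kernel

theorem twoRank8_ok : rankRowOK 8 twoCert8 = true := by decide +kernel

theorem twoRank9_ok : rankRowOK 9 twoCert9 = true := by decide +kernel

theorem twoRanks_nodup : twoRanks.Nodup ∧ twoRanks.length = 10 ∧ twoReps.length = 10 := by decide +kernel

end CfsgLib.JFourClasses
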