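import Cfsg.Agent.Lib.JFourClasses.TwoDefs
import Cfsg.Agent.Lib.JFourClasses.TwoData

/-!
# Kernel checks of the roots
-/

set_option autoImplicit false
set_option Elab.async false
set_option maxRecDepth 100000
set_option maxHeartbeats 4000000

namespace CfsgLib.JFourClasses

theorem roots0_ok : roots0.all (rootOK twoReps (mReps.getD 0 [])) = true := by decide +kernel

theorem roots1_ok : roots1.all (rootOK twoReps (mReps.getD 1 [])) = true := by decide +kernel

theorem roots2_ok : roots2.all (rootOK twoReps (mReps.getD 2 [])) = true := by decide +kernel

theorem roots3_ok : roots3.all (rootOK twoReps (mReps.getD 3 [])) = true := by decide +kernel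

theorem roots4_ok : roots4.all (rootOK twoReps (mReps.getD 4 [])) = true := by decide +kernel

theorem roots5_ok : roots5.all (rootOK twoReps (mReps.getD 5 [])) = true := by decide +kernel

theorem roots6_ok : roots6.all (rootOK twoReps (mReps.getD 6 [])) = true := by decide +kernel

end CfsgLib.JFourClasses
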