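import Cfsg.Agent.Lib.JFourClasses.Rank
import Cfsg.Agent.Lib.J4Pres.M24Bound
import Cfsg.Agent.Lib.Golay.SylowList

/-!
# Checks for the classes of elements of two power order

An element of `2 ^ 11 : M24` is a translation followed by one of seven words; moves are conjugations which keep
the word and act affinely on the translation.
-/

set_option autoImplicit false
set_option maxRecDepth 100000

namespace CfsgLib.JFourClasses

open CfsgLib.J4Pres CfsgLib.CosetEnum

/-- The letters of a translation. -/
def bitsW (v : ℕ) : List ℕ := (List.range 11).filter fun i => Nat.testBit v i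

/-- The sum of listed numbers. -/
def xorL : List ℕ → ℕ
  | [] => 0
  | a :: l => Nat.xor a (xorL l)

/-- The image of a translation under a linear map given on the basis. -/
def appL (L : List ℕ) (v : ℕ) : ℕ := xorL ((bitsW v).map fun i => L.getD i 0)

/-- The letters of a word of the complement. -/
def mW (w : List ℕ) : List ℕ := w.map (17 + ·)

/-- The letters of a translation followed by a word of the complement. -/
def pairW (v : ℕ) (w : List ℕ) : List ℕ := bitsW v ++ mW w

/-- `u c = c v` in packed matrices. -/
noncomputable def twistOK (u c v : List ℕ) : Bool :=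
  strict (wP c) fun C => Nat.beq (mulP C (wP v)) (mulP (wP u) C)

/-- A move over the word `w`: conjugation by `c` is `L` on the translations and sends the word to `add` times it. -/
noncomputable def moveOK (w : List ℕ) (m : List ℕ × List ℕ × ℕ) : Bool :=
  ((List.range 11).all fun i => twistOK (bitsW (m.2.1.getD i 0)) m.1 [i]) &&
    twistOK (pairW m.2.2 w) m.1 (mW w)

/-- The move used, the parent and the depth recorded for a translation. -/
def entry (tb v : ℕ) : ℕ := Nat.shiftRight tb (24 * v) % 16777216

def entPar (e : ℕ) : ℕ := e % 2048

def entMove (e : ℕ) : ℕ := e / 2048 % 64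

def entDepth (e : ℕ) : ℕ := e / 131072

/-- A translation is a root or comes by a move from one of smaller depth. -/
def linkOK (ms : List (List ℕ × List ℕ × ℕ)) (tb : ℕ) (roots : List ℕ) (v : ℕ) : Bool :=
  bif Nat.beq (entDepth (entry tb v)) 0 then roots.contains v
  else Nat.blt (entDepth (entry tb (entPar (entry tb v)))) (entDepth (entry tb v)) &&
    Nat.blt (entMove (entry tb v)) ms.length &&
    (let m := ms.getD (entMove (entry tb v)) ([], [], 0)
     Nat.beq (Nat.xor (appL m.2.1 (entPar (entry tb v))) m.2.2) v)

/-- A root translation with its class and a conjugating word. -/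
noncomputable def rootOK (reps : List (List ℕ)) (w : List ℕ) (r : ℕ × ℕ × List ℕ) : Bool :=
  Nat.blt r.2.1 reps.length && twistOK (reps.getD r.2.1 []) r.2.2 (pairW r.1 w)

/-- A permutation of the Sylow subgroup is conjugate to one of the listed words. -/
def sylStepOK (ws : List (List ℕ)) (x : ℕ × ℕ × List ℕ) : Bool :=
  x.2.2.all (fun g => Nat.blt g 3) && Nat.blt x.2.1 ws.length &&
    CfsgLib.Golay.SylowTwo.eqP (CfsgLib.Golay.mulP (imgW x.2.2) x.1)
      (CfsgLib.Golay.mulP (imgW (ws.getD x.2.1 [])) (imgW x.2.2))

end CfsgLib.JFourClasses
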