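import Cfsg.Agent.Lib.J4Pres.Simple
import Cfsg.Agent.Lib.J4Pres.M24Bound

/-!
# A Sylow two-subgroup in `2 ^ 11 : M24`
-/

set_option autoImplicit false
set_option maxRecDepth 100000

namespace CfsgLib.JFourClasses

open Cfsg CfsgLib.J4Pres Cfsg.Spor

/-- An element of two power order is conjugate to a translation times an element of two power order of the
complement. -/
theorem two_conj_mem {g : J4} {n : ℕ} (hg : orderOf g = 2 ^ n) :
    ∃ v < 2048, ∃ (m : M24P) (k : ℕ), m ^ 2 ^ k = 1 ∧ IsConj g (elemOf v * toJ4 m) := by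
  classical
  haveI := finite_J4
  haveI := Fact.mk Nat.prime_two
  obtain ⟨e⟩ := m24P_iso
  haveI : Finite M24P := Finite.of_equiv _ e.symm.toEquiv
  have hc : Nat.card M24P = 244823040 := (Nat.card_congr e.toEquiv).trans CfsgLib.Golay.natCard_M24
  let T : Sylow 2 M24P := default
  have hT : Nat.card ↥(T : Subgroup M24P) = 2 ^ 10 := by
    rw [T.card_eq_multiplicity, hc, show (244823040 : ℕ) = 2 ^ 10 * 239085 by norm_num,
      Nat.factorization_mul (by norm_num) (by norm_num), Finsupp.add_apply, Nat.factorization_pow]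
    simp [Nat.prime_two.factorization_self, Nat.factorization_eq_zero_of_not_dvd (show ¬ 2 ∣ 239085 by norm_num)]
  set K := (T : Subgroup M24P).map toJ4
  have hK : K ≤ Subgroup.normalizer (eleven : Set J4) := by
    rintro _ ⟨m, -, rfl⟩
    rw [Subgroup.mem_normalizer_iff]
    intro x
    refine ⟨fun hx => toJ4_conj m hx, fun hx => ?_⟩
    have h := toJ4_conj m⁻¹ hx
    rw [map_inv, inv_inv] at h
    simpa [mul_assoc] using h
  set H := eleven ⊔ K
  have hset : ∀ x ∈ H, ∃ a ∈ eleven, ∃ b ∈ K, a * b = x := by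
    intro x hx
    have h := Subgroup.coe_mul_of_right_le_normalizer_left eleven K hK
    rw [← SetLike.mem_coe, h] at hx
    exact Set.mem_mul.1 hx
  let f : ↥eleven × ↥(T : Subgroup M24P) → ↥H := fun p => ⟨(p.1 : J4) * toJ4 p.2,
    mul_mem (Subgroup.mem_sup_left p.1.2) (Subgroup.mem_sup_right ⟨_, p.2.2, rfl⟩)⟩
  have hf : Function.Bijective f := by
    refine ⟨fun p q h => ?_, fun x => ?_⟩
    · have h' : (p.1 : J4) * toJ4 p.2 = q.1 * toJ4 q.2 := congrArg Subtype.val h
      have h1 : (q.1 : J4)⁻¹ * p.1 = toJ4 ((q.2 : M24P) * (p.2 : M24P)⁻¹) := by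
        rw [map_mul, map_inv, eq_mul_inv_iff_mul_eq, mul_assoc, h', inv_mul_cancel_left]
      have h2 := eleven_inf_toJ4 (mul_mem (inv_mem q.1.2) p.1.2) ⟨_, h1.symm⟩
      rw [inv_mul_eq_one] at h2
      refine Prod.ext (Subtype.ext h2.symm) (Subtype.ext (toJ4_injective ?_))
      rw [h2] at h'
      exact mul_left_cancel h'
    · obtain ⟨a, ha, _, ⟨m, hm, rfl⟩, he⟩ := hset x x.2
      exact ⟨(⟨a, ha⟩, ⟨m, hm⟩), Subtype.ext he⟩
  have hH : Nat.card ↥H = 2 ^ (Nat.card J4).factorization 2 := by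
    rw [← Nat.card_congr (Equiv.ofBijective f hf), Nat.card_prod, eleven_card_eq, hT, isJ4.2,
      show (86775571046077562880 : ℕ) = 2 ^ 21 * 41377816699065 by norm_num,
      Nat.factorization_mul (by norm_num) (by norm_num), Finsupp.add_apply, Nat.factorization_pow]
    simp [Nat.prime_two.factorization_self,
      Nat.factorization_eq_zero_of_not_dvd (show ¬ 2 ∣ 41377816699065 by norm_num)]
  obtain ⟨P, hP⟩ := (IsPGroup.of_card (G := ↥(Subgroup.zpowers g)) (p := 2) (n := n)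
    (by rw [Nat.card_zpowers, hg])).exists_le_sylow
  obtain ⟨c, hc'⟩ := MulAction.exists_smul_eq J4 P (Sylow.ofCard H hH)
  have hmem : c * g * c⁻¹ ∈ H := by
    have : c * g * c⁻¹ ∈ ((c • P : Sylow 2 J4) : Subgroup J4) := by
      rw [Sylow.coe_subgroup_smul]
      exact ⟨g, hP (Subgroup.mem_zpowers g), rfl⟩
    rwa [hc'] at this
  obtain ⟨⟨⟨a, ha⟩, ⟨m, hm⟩⟩, he⟩ := hf.2 ⟨_, hmem⟩
  obtain ⟨v, hv, rfl⟩ := exists_elemOf ha
  obtain ⟨k, hk⟩ := T.2 ⟨m, hm⟩
  exact ⟨v, by simpa using hv, m, k, by simpa using congrArg Subtype.val hk,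
    isConj_iff.2 ⟨c, (congrArg Subtype.val he).symm⟩⟩

end CfsgLib.JFourClasses
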