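import Cfsg.Agent.Lib.JFourClasses.TwoSound
import Cfsg.Agent.Lib.JFourClasses.TwoSylow
import Cfsg.Agent.Lib.JFourClasses.SylCheck
import Cfsg.Agent.Lib.JFourClasses.Count

/-!
# The ten classes of elements of two power order
-/

set_option autoImplicit false
set_option maxRecDepth 100000

namespace CfsgLib.JFourClasses

open Cfsg CfsgLib.CosetEnum CfsgLib.J4Pres Cfsg.Spor CfsgLib.Golay

/-- An element of two power order of the presented Mathieu group is conjugate to one of seven words. -/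
theorem m24_two {m : M24P} {k : ℕ} (hm : m ^ 2 ^ k = 1) :
    ∃ j < 7, IsConj m (prodW m24Gen (mReps.getD j [])) := by
  have hin : ∀ x : M24P, m24Hom x ∈ Cfsg.M24 := fun x => m24Hom_range ▸ ⟨x, rfl⟩
  obtain ⟨hpc, hlen, hmem⟩ := syl_pc
  obtain ⟨a, ha, P, hP, hv, -, he⟩ := SylowList.exists_conj_els (n := 10) (m := 239085)
    (natCard_M24.trans (by norm_num)) (by norm_num) hpc hlen
    (fun Q hQ => toPerm_mem_M24 (List.all_eq_true.1 hmem Q hQ)) (hin m) (g := m24Hom m) (k := k)
    (by rw [← map_pow, hm, map_one])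
  obtain ⟨a', ha'⟩ : a ∈ m24Hom.range := m24Hom_range ▸ ha
  obtain ⟨i, hi, rfl⟩ := List.getElem_of_mem hP
  have hl : (SylowTwo.els sylGs).length = 1024 := by rw [SylowTwo.els_length, hlen]; norm_num
  obtain ⟨W, hW, hWl⟩ : ∃ W, sylPartOK (i / 128) W = true ∧ True := by
    have : i / 128 < 8 := by omega
    interval_cases h : i / 128
    exacts [⟨_, sylPart0_ok, trivial⟩, ⟨_, sylPart1_ok, trivial⟩, ⟨_, sylPart2_ok, trivial⟩,
      ⟨_, sylPart3_ok, trivial⟩, ⟨_, sylPart4_ok, trivial⟩, ⟨_, sylPart5_ok, trivial⟩, ⟨_, sylPart6_ok, trivial⟩,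
      ⟨_, sylPart7_ok, trivial⟩]
  simp only [sylPartOK, Bool.and_eq_true, List.all_eq_true] at hW
  obtain ⟨hWlen, hW⟩ := hW
  have hWlen' := Nat.eq_of_beq_eq_true hWlen
  set L := ((SylowTwo.els sylGs).drop (128 * (i / 128))).take 128 with hL
  have hj : i % 128 < (L.zip W).length := by
    rw [List.length_zip, hWlen', hL, List.length_take, List.length_drop, hl]; omega
  have hx := hW _ (List.getElem_mem hj)
  rw [List.getElem_zip] at hx
  have hLi : L[i % 128]'(by rw [List.length_zip] at hj; omega) = (SylowTwo.els sylGs)[i] := by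
    simp only [hL, List.getElem_take, List.getElem_drop]
    congr 1
    omega
  rw [hLi] at hx
  generalize W[i % 128]'(by omega) = kw at hx
  obtain ⟨j, c⟩ := kw
  simp only [sylStepOK, Bool.and_eq_true, Nat.blt_eq] at hx
  obtain ⟨⟨hc, hjlt⟩, heq⟩ := hx
  obtain ⟨hmr, hml⟩ := mReps_ok
  have hjw : (mReps.getD j []).all (fun g => Nat.blt g 3) = true := by
    rw [List.getD_eq_getElem _ _ hjlt]; exact List.all_eq_true.1 hmr _ (List.getElem_mem _)
  have hv1 := (imgW_spec (w := c) (by simpa [List.all_eq_true] using hc)).1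
  have hv2 := (imgW_spec (w := mReps.getD j []) (by simpa [List.all_eq_true] using hjw)).1
  have h := SylowTwo.toPerm_eq_of_eqP (validP_mulP hv1 hv) (validP_mulP hv2 hv1) heq
  rw [toPerm_mulP hv1 hv, toPerm_mulP hv2 hv1, ← m24Hom_word hjw,
    ← m24Hom_word (by simpa [List.all_eq_true] using hc), ← he, ← ha'] at h
  refine ⟨j, hml ▸ hjlt, isConj_iff.2 ⟨prodW m24Gen c * a', m24Hom_injective ?_⟩⟩
  rw [map_mul, map_mul, map_inv, map_mul]
  calc m24Hom (prodW m24Gen c) * m24Hom a' * m24Hom m * (m24Hom (prodW m24Gen c) * m24Hom a')⁻¹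
      = m24Hom (prodW m24Gen c) * (m24Hom a' * m24Hom m * (m24Hom a')⁻¹) * (m24Hom (prodW m24Gen c))⁻¹ := by group
    _ = m24Hom (prodW m24Gen (mReps.getD j [])) := by rw [h, mul_inv_cancel_right]

theorem twoRep_pow : ((List.range 10).all fun i => Nat.beq (powP (wP (twoReps.getD i [])) 16) oneP) = true := by
  decide +kernel

theorem toMatP_inj {a : J4} {P : ℕ} (h : Has a P) (he : Nat.beq P oneP = true) : a = 1 := h.eq has_one he

/-- The elements of two power order. -/
noncomputable def twoRepsJ : Reps {g : J4 | ∃ n, orderOf g = 2 ^ n} 10 where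
  rep := twoRep
  mem i := by
    have h := List.all_eq_true.1 twoRep_pow i.val (List.mem_range.2 i.2)
    have hp : ∀ k, Has (twoRep i ^ k) (powP (wP (twoReps.getD i.val [])) k) := fun k => by
      induction k with
      | zero => rw [pow_zero]; exact has_one
      | succ k ih => rw [pow_succ]; exact ih.mul (has_elt _)
    obtain ⟨n, -, hn⟩ := (Nat.dvd_prime_pow Nat.prime_two).1
      (orderOf_dvd_of_pow_eq_one (show twoRep i ^ 2 ^ 4 = 1 from toMatP_inj (hp 16) h))
    exact ⟨n, hn⟩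
  apart _ _ h := twoRep_apart h
  cover g hg := by
    obtain ⟨n, hn⟩ := hg
    obtain ⟨v, hv, m, k, hm, hgm⟩ := two_conj_mem hn
    obtain ⟨j, hj, hmj⟩ := m24_two hm
    obtain ⟨c, hc⟩ := isConj_iff.1 hmj
    obtain ⟨hmr, hml⟩ := mReps_ok
    have hw : ∀ x ∈ mReps.getD j [], x < 3 := by
      rw [List.getD_eq_getElem _ _ (hml.symm ▸ hj)]
      intro x hx
      exact Nat.blt_eq.mp (List.all_eq_true.1 (List.all_eq_true.1 hmr _ (List.getElem_mem _)) x hx)
    obtain ⟨v', hv', he⟩ := exists_elemOf (toJ4_conj c (elemOf_mem v))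
    obtain ⟨i, hi⟩ := reduce hj (v := v') (by simpa using hv')
    refine ⟨i, hgm.trans (IsConj.trans ?_ hi)⟩
    refine isConj_iff.2 ⟨toJ4 c, ?_⟩
    rw [elk, he, elt_mW _ hw, jg_word, ← hc, map_mul, map_mul, map_inv]
    group

end CfsgLib.JFourClasses
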