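import Cfsg.Agent.Lib.JFourClasses.TwoCheckMoves
import Cfsg.Agent.Lib.JFourClasses.TwoCheckRoots
import Cfsg.Agent.Lib.JFourClasses.TwoCheckRank
import Cfsg.Agent.Lib.J4Pres.Irred

/-!
# The translations times the seven words reduce to ten representatives
-/

set_option autoImplicit false
set_option maxRecDepth 100000

namespace CfsgLib.JFourClasses

open Cfsg CfsgLib.CosetEnum CfsgLib.J4Pres Cfsg.Spor

theorem bitsW_spec : ((List.range 2048).all fun v => Nat.beq (xorL ((bitsW v).map fun i => 2 ^ i)) v) = true := by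
  decide +kernel

theorem mem_bitsW {v i : ℕ} (h : i ∈ bitsW v) : i < 11 := List.mem_range.1 (List.mem_of_mem_filter h)

theorem elt_basis : ∀ l : List ℕ, (∀ i ∈ l, i < 11) → elt l = elemOf (xorL (l.map fun i => 2 ^ i))
  | [], _ => (elemOf_zero).symm
  | a :: l, h => by
    rw [List.forall_mem_cons] at h
    rw [List.map_cons, xorL, show ∀ x y : ℕ, Nat.xor x y = x ^^^ y from fun _ _ => rfl, elemOf_xor,
      ← elt_basis l h.2]
    show lett a * elt l = _
    rw [lett, if_pos (show a < 17 by omega), gC, if_pos h.1]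

theorem elt_bitsW {v : ℕ} (hv : v < 2048) : elt (bitsW v) = elemOf v := by
  rw [elt_basis _ fun i hi => mem_bitsW hi,
    Nat.eq_of_beq_eq_true (List.all_eq_true.1 bitsW_spec v (List.mem_range.2 hv))]

theorem elt_mW : ∀ w : List ℕ, (∀ g ∈ w, g < 3) → elt (mW w) = prodW jg w
  | [], _ => rfl
  | g :: w, h => by
    rw [List.forall_mem_cons] at h
    show lett (17 + g) * elt (mW w) = _
    rw [elt_mW w h.2, prodW_cons, lett, if_neg (by omega), show 17 + g - 17 = g by omega, j5, if_pos h.1]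

theorem twist_spec {u c v : List ℕ} (h : twistOK u c v = true) :
    elt c * elt v * (elt c)⁻¹ = elt u := by
  rw [twistOK, strict_eq] at h
  rw [Has.eq ((has_elt c).mul (has_elt v)) ((has_elt u).mul (has_elt c)) h, mul_inv_cancel_right]

/-- A translation followed by the word with index `k`. -/
noncomputable def elk (k v : ℕ) : J4 := elemOf v * elt (mW (mReps.getD k []))

theorem conj_lin {c : J4} {L : List ℕ} (h : ∀ i < 11, c * lett i * c⁻¹ = elemOf (L.getD i 0)) :
    ∀ l : List ℕ, (∀ i ∈ l, i < 11) → c * elt l * c⁻¹ = elemOf (xorL (l.map fun i => L.getD i 0))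
  | [], _ => by simp [elt_nil, xorL, elemOf_zero]
  | a :: l, hl => by
    rw [List.forall_mem_cons] at hl
    rw [List.map_cons, xorL, show ∀ x y : ℕ, Nat.xor x y = x ^^^ y from fun _ _ => rfl, elemOf_xor,
      ← conj_lin h l hl.2, ← h a hl.1]
    show c * (lett a * elt l) * c⁻¹ = _
    group

theorem move_spec {k : ℕ} {m : List ℕ × List ℕ × ℕ} (h : moveOK (mReps.getD k []) m = true)
    (hb : ∀ i < 11, m.2.1.getD i 0 < 2048) (ha : m.2.2 < 2048) {x : ℕ} (hx : x < 2048) :
    IsConj (elk k x) (elk k (Nat.xor (appL m.2.1 x) m.2.2)) := by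
  simp only [moveOK, Bool.and_eq_true, List.all_eq_true, List.mem_range] at h
  obtain ⟨h1, h2⟩ := h
  set c := elt m.1
  refine isConj_iff.2 ⟨c, ?_⟩
  have hl : ∀ i < 11, c * lett i * c⁻¹ = elemOf (m.2.1.getD i 0) := fun i hi => by
    rw [← elt_bitsW (hb i hi), ← twist_spec (h1 i hi), elt_single]
  have hw : c * elt (mW (mReps.getD k [])) * c⁻¹ = elk k m.2.2 := by
    rw [twist_spec h2, pairW, elt_append, elt_bitsW ha]
    rfl
  have hv := conj_lin hl (bitsW x) fun i hi => mem_bitsW hi
  rw [elt_bitsW hx] at hv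
  show c * (elemOf x * elt (mW (mReps.getD k []))) * c⁻¹ = _
  rw [show ∀ p q : J4, c * (p * q) * c⁻¹ = (c * p * c⁻¹) * (c * q * c⁻¹) from fun p q => by group, hv, hw, elk, elk,
    show ∀ p q : ℕ, Nat.xor p q = p ^^^ q from fun _ _ => rfl, elemOf_xor, appL, mul_assoc]

/-- The tables of the seven words. -/
def twoTables : List (List (List ℕ × List ℕ × ℕ) × ℕ × List (ℕ × ℕ × List ℕ)) :=
  [(mvs0, tb0, roots0), (mvs1, tb1, roots1), (mvs2, tb2, roots2), (mvs3, tb3, roots3), (mvs4, tb4, roots4),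
    (mvs5, tb5, roots5), (mvs6, tb6, roots6)]

theorem bounds_ok : (twoTables.all fun T => T.1.all fun m =>
    ((List.range 11).all fun i => Nat.blt (m.2.1.getD i 0) 2048) && Nat.blt m.2.2 2048) = true := by
  decide +kernel

theorem root_bound : (twoTables.all fun T => T.2.2.all fun r => Nat.blt r.1 2048) = true := by decide +kernel

/-- A representative. -/
noncomputable def twoRep (i : Fin 10) : J4 := elt (twoReps.getD i.val [])

theorem reduce {k : ℕ} (hk : k < 7) {v : ℕ} (hv : v < 2048) : ∃ i, IsConj (elk k v) (twoRep i) := by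
  obtain ⟨ms, tb, rs, hm, hl, hr, hbd, hrb⟩ : ∃ (ms : List (List ℕ × List ℕ × ℕ)) (tb : ℕ)
      (rs : List (ℕ × ℕ × List ℕ)), ms.all (moveOK (mReps.getD k [])) = true ∧
      (List.range 2048).all (linkOK ms tb (rs.map Prod.fst)) = true ∧
      rs.all (rootOK twoReps (mReps.getD k [])) = true ∧
      (ms.all fun m => ((List.range 11).all fun i => Nat.blt (m.2.1.getD i 0) 2048) && Nat.blt m.2.2 2048) = true ∧
      (rs.all fun r => Nat.blt r.1 2048) = true := by
    have hb := List.all_eq_true.1 bounds_ok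
    have hr := List.all_eq_true.1 root_bound
    interval_cases k
    exacts [⟨_, _, _, mvs0_ok, links0_ok, roots0_ok, hb (mvs0, tb0, roots0) (by simp [twoTables]),
        hr (mvs0, tb0, roots0) (by simp [twoTables])⟩,
      ⟨_, _, _, mvs1_ok, links1_ok, roots1_ok, hb (mvs1, tb1, roots1) (by simp [twoTables]),
        hr (mvs1, tb1, roots1) (by simp [twoTables])⟩,
      ⟨_, _, _, mvs2_ok, links2_ok, roots2_ok, hb (mvs2, tb2, roots2) (by simp [twoTables]),
        hr (mvs2, tb2, roots2) (by simp [twoTables])⟩,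
      ⟨_, _, _, mvs3_ok, links3_ok, roots3_ok, hb (mvs3, tb3, roots3) (by simp [twoTables]),
        hr (mvs3, tb3, roots3) (by simp [twoTables])⟩,
      ⟨_, _, _, mvs4_ok, links4_ok, roots4_ok, hb (mvs4, tb4, roots4) (by simp [twoTables]),
        hr (mvs4, tb4, roots4) (by simp [twoTables])⟩,
      ⟨_, _, _, mvs5_ok, links5_ok, roots5_ok, hb (mvs5, tb5, roots5) (by simp [twoTables]),
        hr (mvs5, tb5, roots5) (by simp [twoTables])⟩,
      ⟨_, _, _, mvs6_ok, links6_ok, roots6_ok, hb (mvs6, tb6, roots6) (by simp [twoTables]),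
        hr (mvs6, tb6, roots6) (by simp [twoTables])⟩]
  simp only [List.all_eq_true, List.mem_range, Bool.and_eq_true, Nat.blt_eq] at hm hl hr hbd hrb
  induction hd : entDepth (entry tb v) using Nat.strong_induction_on generalizing v with
  | _ d ih =>
    have h := hl v hv
    by_cases h0 : Nat.beq (entDepth (entry tb v)) 0 = true
    · rw [linkOK, h0, cond_true, List.contains_iff_mem, List.mem_map] at h
      obtain ⟨⟨a, c, w⟩, hmem, rfl⟩ := h
      have hh := hr _ hmem
      simp only [rootOK, Bool.and_eq_true, Nat.blt_eq] at hh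
      have hlen : twoReps.length = 10 := twoRanks_nodup.2.2
      refine ⟨⟨c, by omega⟩, isConj_iff.2 ⟨elt w, ?_⟩⟩
      have := twist_spec hh.2
      rw [pairW, elt_append, elt_bitsW hv] at this
      exact this
    · rw [linkOK, Bool.eq_false_iff.2 h0, cond_false] at h
      simp only [Bool.and_eq_true, Nat.blt_eq] at h
      obtain ⟨⟨hlt, hmv⟩, he⟩ := h
      have hp : entPar (entry tb v) < 2048 := Nat.mod_lt _ (by norm_num)
      set m := ms.getD (entMove (entry tb v)) ([], [], 0)
      have hmem : m ∈ ms := by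
        simp only [m]; rw [List.getD_eq_getElem _ _ hmv]; exact List.getElem_mem _
      obtain ⟨i, hi⟩ := ih _ (hd ▸ hlt) hp rfl
      have hc := move_spec (hm m hmem) (fun j hj => (hbd m hmem).1 j hj) (hbd m hmem).2 hp
      rw [Nat.eq_of_beq_eq_true he] at hc
      exact ⟨i, hc.symm.trans hi⟩

theorem twoRep_rank (i : Fin 10) (j : Fin 4) :
    rankPow (twoRep i) (rankExps.getD j.val 0) = (twoRanks.getD i.val []).getD j.val 0 := by
  obtain ⟨cs, hc⟩ : ∃ cs, rankRowOK i.val cs = true := by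
    fin_cases i
    exacts [⟨_, twoRank0_ok⟩, ⟨_, twoRank1_ok⟩, ⟨_, twoRank2_ok⟩, ⟨_, twoRank3_ok⟩, ⟨_, twoRank4_ok⟩,
      ⟨_, twoRank5_ok⟩, ⟨_, twoRank6_ok⟩, ⟨_, twoRank7_ok⟩, ⟨_, twoRank8_ok⟩, ⟨_, twoRank9_ok⟩]
  exact rankPow_eq (has_elt _) (List.all_eq_true.1 hc j.val (List.mem_range.2 j.2))

theorem twoRep_apart {i j : Fin 10} (h : IsConj (twoRep i) (twoRep j)) : i = j := by
  have key : ∀ k : Fin 4, (twoRanks.getD i.val []).getD k.val 0 = (twoRanks.getD j.val []).getD k.val 0 := fun k => by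
    rw [← twoRep_rank, ← twoRep_rank, rankPow_isConj h]
  have tbl : ∀ a b : Fin 10, (∀ k : Fin 4, (twoRanks.getD a.val []).getD k.val 0 =
      (twoRanks.getD b.val []).getD k.val 0) → a = b := by decide +kernel
  exact tbl i j key

end CfsgLib.JFourClasses
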